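import Mathlib
import Cfsg.Agent.Lib.Forms.Max.SL3.Singer.Thin

/-!
# Irreducible subgroups of SL(3, p) with a transvection
-/

set_option autoImplicit false
set_option linter.unusedSectionVars false

namespace Cfsg.Agent.Forms.Max.SL3.Elation

open Matrix Cfsg.Agent.Forms.Max.SL3.Singer Cfsg.Agent.Aschbacher

variable {F : Type*} [Field F] [Fintype F] {M : Subgroup (GL (Fin 3) F)}

local notation "Mat" => Matrix (Fin 3) (Fin 3) F
local notation "Vec" => (Fin 3 → F)
local notation "GL3" => GL (Fin 3) F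

theorem tr_zero (u : Vec) : Tr M u 0 :=
  ⟨zero_dotProduct u, 1, one_mem M, fun x => by rw [Units.val_one, one_mulVec, zero_dotProduct, zero_smul, add_zero]⟩

theorem tr_smul (hp : (Fintype.card F).Prime) {u φ : Vec} (h : Tr M u φ) (c : F) : Tr M u (c • φ) := by
  haveI : Fact (Fintype.card F).Prime := ⟨hp⟩
  haveI : CharP F (Fintype.card F) := by
    obtain ⟨p, hc⟩ := CharP.exists F
    haveI := hc
    obtain ⟨k, hpr, hk⟩ := FiniteField.card F p
    have : k = (1 : ℕ) := Nat.Prime.eq_one_of_pow (hk ▸ hp)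
    rw [this, pow_one] at hk
    exact hk ▸ hc
  obtain ⟨i, rfl⟩ : ∃ i : ℕ, (i : F) = c := by
    have hb : Function.Bijective (ZMod.castHom (dvd_refl (Fintype.card F)) F) :=
      (Fintype.bijective_iff_injective_and_card _).2 ⟨RingHom.injective _, ZMod.card _⟩
    obtain ⟨z, rfl⟩ := hb.2 c
    exact ⟨z.val, by rw [← map_natCast (ZMod.castHom (dvd_refl (Fintype.card F)) F), ZMod.natCast_zmod_val]⟩
  induction i with
  | zero => simpa using tr_zero (M := M) u
  | succ i ih => rw [Nat.cast_succ, add_smul, one_smul]; exact ih.add h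

theorem tr_scale (hp : (Fintype.card F).Prime) {u φ : Vec} (h : Tr M u φ) {c : F} (hc : c ≠ 0) : Tr M (c • u) φ := by
  obtain ⟨h0, m, hm, e⟩ := tr_smul hp h c
  refine ⟨by rw [dotProduct_smul, h.1, smul_zero], m, hm, fun x => ?_⟩
  rw [e, smul_dotProduct, smul_eq_mul, mul_comm, smul_smul]

/-- An irreducible subgroup of `SL(3, p)` containing a transvection contains the special linear group. -/
theorem sl_le_of_tr (hp : (Fintype.card F).Prime)
    (hpt : ∀ v : Fin 3 → F, v ≠ 0 → ∃ g ∈ M, ∀ c : F, (g : Matrix (Fin 3) (Fin 3) F) *ᵥ v ≠ c • v)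
    (hln : ∀ χ : Fin 3 → F, χ ≠ 0 → ∃ g ∈ M, ∀ c : F, χ ᵥ* (g : Matrix (Fin 3) (Fin 3) F) ≠ c • χ)
    {u φ : Fin 3 → F} (hu : u ≠ 0) (hφ : φ ≠ 0) (h : Tr M u φ) :
    Cfsg.Geo.specialLinear (Fin 3) F ≤ M := by
  classical
  -- invariant subspaces are trivial
  have hirr : ∀ W : Submodule F Vec, (∀ g ∈ M, ∀ x ∈ W, (g : Mat) *ᵥ x ∈ W) → W = ⊥ ∨ W = ⊤ := by
    intro W hW
    by_contra hc
    push Not at hc
    obtain ⟨x, hx, hx0⟩ := Submodule.exists_mem_ne_zero_of_ne_bot hc.1
    have hlt := Submodule.finrank_lt hc.2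
    rw [Module.finrank_fintype_fun_eq_card, Fintype.card_fin] at hlt
    rcases Nat.lt_or_ge (Module.finrank F W) 2 with h1 | h2
    · obtain ⟨g, hg, hne⟩ := hpt x hx0
      have hle : Submodule.span F {x} ≤ W := (Submodule.span_singleton_le_iff_mem _ _).2 hx
      have heq : Submodule.span F {x} = W :=
        Submodule.eq_of_le_of_finrank_le hle (by rw [finrank_span_singleton hx0]; omega)
      obtain ⟨c, hc'⟩ := Submodule.mem_span_singleton.1 (heq.symm ▸ hW g hg x hx)
      exact hne c hc'.symm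
    · obtain ⟨χ, hχ, hχW⟩ : ∃ χ : Vec, χ ≠ 0 ∧ ∀ y ∈ W, χ ⬝ᵥ y = 0 := by
        obtain ⟨f, hf, hfW⟩ := Submodule.exists_le_ker_of_lt_top W (lt_top_iff_ne_top.2 hc.2)
        refine ⟨fun i => f (Pi.single i 1), fun e => hf (LinearMap.pi_ext' fun i => LinearMap.ext_ring ?_), fun y hy => ?_⟩
        · simpa using congrFun e i
        · have : f y = 0 := hfW hy
          rw [← this]
          conv_rhs => rw [pi_eq_sum_univ' y, map_sum]
          simp [dotProduct, map_smul, mul_comm]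
      obtain ⟨g, hg, hne⟩ := hln χ hχ
      obtain ⟨a, ha, ha0⟩ : ∃ a ∈ W, a ≠ 0 := ⟨x, hx, hx0⟩
      obtain ⟨b, hb, hb0⟩ : ∃ b ∈ W, b ∉ Submodule.span F {a} := by
        by_contra hall
        push Not at hall
        have := (Submodule.finrank_mono (show W ≤ Submodule.span F {a} from hall)).trans (finrank_span_singleton ha0).le
        omega
      obtain ⟨c, hc'⟩ := Singer.Thin.prop_of_two hχ ha0 (fun c hcb => hb0 (Submodule.mem_span_singleton.2 ⟨c, hcb.symm⟩))
        (hχW a ha) (hχW b hb)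
        (ψ := χ ᵥ* (g : Mat)) (by rw [← dotProduct_mulVec]; exact hχW _ (hW g hg a ha))
        (by rw [← dotProduct_mulVec]; exact hχW _ (hW g hg b hb))
      exact hne c hc'
  -- one centre with two axes suffices
  suffices hfat : ∃ a φ₁ φ₂ : Vec, a ≠ 0 ∧ φ₁ ≠ 0 ∧ (∀ c : F, φ₂ ≠ c • φ₁) ∧ Tr M a φ₁ ∧ Tr M a φ₂ by
    obtain ⟨a, φ₁, φ₂, ha, hφ₁, hind, t₁, t₂⟩ := hfat
    let Full : Vec → Prop := fun x => ∀ χ : Vec, χ ⬝ᵥ x = 0 → Tr M x χ
    have hsc : ∀ x (c : F), Full x → Full (c • x) := fun x c hx χ hχ => by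
      rcases eq_or_ne c 0 with rfl | hc
      · rw [zero_smul] at hχ ⊢
        exact ⟨hχ, 1, one_mem M, fun y => by rw [Units.val_one, one_mulVec, smul_zero, add_zero]⟩
      · rw [dotProduct_smul, smul_eq_mul, mul_eq_zero] at hχ
        exact tr_scale hp (hx χ (hχ.resolve_left hc)) hc
    have hfull : Full a := by
      intro χ hχ
      let L : Vec →ₗ[F] F := { toFun := fun ψ => ψ ⬝ᵥ a, map_add' := fun x y => add_dotProduct x y a,
                               map_smul' := fun c x => smul_dotProduct c x a }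
      have hli : LinearIndependent F ![φ₁, φ₂] := (LinearIndependent.pair_iff' hφ₁).2 fun c e => hind c e.symm
      have hk := LinearMap.finrank_range_add_finrank_ker L
      have hr : 1 ≤ Module.finrank F (LinearMap.range L) := by
        rw [Nat.one_le_iff_ne_zero]
        intro h0
        rw [Submodule.finrank_eq_zero, LinearMap.range_eq_bot] at h0
        obtain ⟨i, hi⟩ := Function.ne_iff.1 ha
        exact hi (by simpa [L] using LinearMap.congr_fun h0 (Pi.single i 1))
      rw [Module.finrank_fintype_fun_eq_card, Fintype.card_fin] at hk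
      have heq : Submodule.span F (Set.range ![φ₁, φ₂]) = L.ker := by
        refine Submodule.eq_of_le_of_finrank_le (Submodule.span_le.2 ?_) ?_
        · rintro _ ⟨i, rfl⟩
          fin_cases i
          · exact t₁.1
          · exact t₂.1
        · rw [finrank_span_eq_card hli, Fintype.card_fin]; omega
      have hmem : χ ∈ L.ker := hχ
      rw [← heq, Matrix.range_cons_cons_empty, Submodule.mem_span_pair] at hmem
      obtain ⟨s, t, rfl⟩ := hmem
      exact (tr_smul hp t₁ s).add (tr_smul hp t₂ t)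
    have hadd : ∀ x y, Full x → Full y → Full (x + y) := by
      intro x y hx hy
      rcases eq_or_ne x 0 with rfl | hx0
      · rwa [zero_add]
      by_cases hdep : ∃ c : F, y = c • x
      · obtain ⟨c, rfl⟩ := hdep
        rw [show x + c • x = (1 + c) • x by rw [add_smul, one_smul]]
        exact hsc x _ hx
      push Not at hdep
      -- move `y` by a transvection centred at `x`
      obtain ⟨η, hηx, hηy⟩ : ∃ η : Vec, η ⬝ᵥ x = 0 ∧ η ⬝ᵥ y = 1 := by
        obtain ⟨η, h1, h2⟩ := Max.exists_row_of_not_mem (S := Submodule.span F {x}) (v := y)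
          (fun hm => (Submodule.mem_span_singleton.1 hm).elim fun c hc => hdep c hc.symm)
        exact ⟨η, h1 _ (Submodule.mem_span_singleton_self x), h2⟩
      obtain ⟨-, m, hm, hmx⟩ := hx η hηx
      have e : (m : Mat) *ᵥ y = x + y := by rw [hmx, hηy, one_smul, add_comm]
      intro χ hχ
      rw [← e] at hχ ⊢
      have := (hy (χ ᵥ* (m : Mat)) (by rw [← dotProduct_mulVec]; exact hχ)).conj hm
      rwa [Matrix.vecMul_vecMul, Units.mul_inv, Matrix.vecMul_one] at this
    let W : Submodule F Vec :=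
      { carrier := {x | Full x}
        add_mem' := fun {x y} hx hy => hadd x y hx hy
        zero_mem' := fun χ hχ => ⟨hχ, 1, one_mem M, fun y => by rw [Units.val_one, one_mulVec, smul_zero, add_zero]⟩
        smul_mem' := fun c x hx => hsc x c hx }
    have hW : W = ⊤ := (hirr W fun g hg x hx χ hχ => by
      have := (hx (χ ᵥ* (g : Mat)) (by rw [← dotProduct_mulVec]; exact hχ)).conj hg
      rwa [Matrix.vecMul_vecMul, Units.mul_inv, Matrix.vecMul_one] at this).resolve_left
        fun e => ha (by have : a ∈ W := hfull; rwa [e, Submodule.mem_bot] at this)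
    refine Max.specialLinear_le_of_centres fun x χ hχ => ?_
    obtain ⟨-, m, hm, hmx⟩ := (show Full x from (hW ▸ Submodule.mem_top : x ∈ W)) χ hχ
    have : trv x χ hχ = m := Max.gl_ext fun y => by rw [trv_mulVec, hmx]
    exact this ▸ hm
  by_contra hno
  push Not at hno
  -- now every centre has one axis
  have huq : ∀ {a α β : Vec}, a ≠ 0 → α ≠ 0 → Tr M a α → Tr M a β → ∃ c : F, β = c • α := fun {a α β} ha hα t₁ t₂ => by
    by_contra hc
    push Not at hc
    exact hno a α β ha hα hc t₁ t₂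
  have hsym : ∀ {a α b β : Vec}, a ≠ 0 → α ≠ 0 → β ≠ 0 → Tr M a α → Tr M b β → β ⬝ᵥ a = 0 → α ⬝ᵥ b = 0 := by
    intro a α b β ha hα hβ t₁ t₂ h0
    by_contra hne
    obtain ⟨c, hc⟩ := huq ha hα t₁ (t₁.comm t₂ h0)
    have : β = ((α ⬝ᵥ b)⁻¹ * c) • α := by rw [← smul_smul, ← hc, inv_smul_smul₀ hne]
    have h0' := t₂.1
    rw [this, smul_dotProduct, smul_eq_mul, mul_eq_zero] at h0'
    rcases h0' with h1 | h1
    · exact hβ (by rw [this, h1, zero_smul])
    · exact hne h1
  obtain ⟨g, hg, hgu⟩ : ∃ g ∈ M, φ ⬝ᵥ ((g : Mat) *ᵥ u) ≠ 0 := by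
    by_contra hc
    push Not at hc
    let W : Submodule F Vec :=
      { carrier := {x | ∀ g ∈ M, φ ⬝ᵥ ((g : Mat) *ᵥ x) = 0}
        add_mem' := fun {x y} hx hy g hg => by rw [Matrix.mulVec_add, dotProduct_add, hx g hg, hy g hg, add_zero]
        zero_mem' := fun g _ => by rw [Matrix.mulVec_zero, dotProduct_zero]
        smul_mem' := fun c x hx g hg => by rw [Matrix.mulVec_smul, dotProduct_smul, hx g hg, smul_zero] }
    rcases hirr W fun g hg x hx g' hg' => by rw [← Max.mulVec_mul_GL]; exact hx _ (mul_mem hg' hg) with e | e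
    · have : u ∈ W := hc
      rw [e, Submodule.mem_bot] at this
      exact hu this
    · obtain ⟨i, hi⟩ := Function.ne_iff.1 hφ
      have : Pi.single i 1 ∈ W := e ▸ Submodule.mem_top
      exact hi (by have h1 := this 1 (one_mem M); rwa [Units.val_one, one_mulVec, dotProduct_single_one] at h1)
  set w := (g : Mat) *ᵥ u with hw
  set ψ := φ ᵥ* ((g⁻¹ : GL3) : Mat) with hψ
  have hwψ : Tr M w ψ := h.conj hg
  have hw0 : w ≠ 0 := Max.mulVec_ne_zero g hu
  have hψ0 : ψ ≠ 0 := fun e => hφ (by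
    have := congrArg (fun v => v ᵥ* (g : Mat)) e
    simpa [hψ, Matrix.vecMul_vecMul] using this)
  have hψu : ψ ⬝ᵥ u ≠ 0 := fun e => hgu (hsym hu hφ hψ0 h hwψ e)
  obtain ⟨X, hX0, hX1, hX2⟩ : ∃ X : Vec, X ≠ 0 ∧ φ ⬝ᵥ X = 0 ∧ ψ ⬝ᵥ X = 0 := by
    let L : Vec →ₗ[F] (Fin 2 → F) :=
      { toFun := fun x => ![φ ⬝ᵥ x, ψ ⬝ᵥ x]
        map_add' := fun a b => by ext i; fin_cases i <;> simp [dotProduct_add]
        map_smul' := fun c a => by ext i; fin_cases i <;> simp [dotProduct_smul] }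
    have h1 := LinearMap.finrank_range_add_finrank_ker L
    have h2 := Submodule.finrank_le (LinearMap.range L)
    rw [Module.finrank_fintype_fun_eq_card, Fintype.card_fin] at h1 h2
    obtain ⟨x, hx, hx0⟩ := Submodule.exists_mem_ne_zero_of_ne_bot (p := L.ker) fun e => by
      rw [e, finrank_bot] at h1; omega
    exact ⟨x, hx0, by simpa [L] using congrFun hx 0, by simpa [L] using congrFun hx 1⟩
  -- a transvection whose axis avoids `X`
  obtain ⟨S, σ, hS, hσS⟩ : ∃ S σ : Vec, Tr M S σ ∧ S ≠ 0 ∧ σ ⬝ᵥ X ≠ 0 := by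
    by_contra hc
    push Not at hc
    let W : Submodule F Vec :=
      { carrier := {x | ∀ a α : Vec, Tr M a α → a ≠ 0 → α ⬝ᵥ x = 0}
        add_mem' := fun {x y} hx hy a α ht ha => by rw [dotProduct_add, hx a α ht ha, hy a α ht ha, add_zero]
        zero_mem' := fun _ _ _ _ => dotProduct_zero _
        smul_mem' := fun c x hx a α ht ha => by rw [dotProduct_smul, hx a α ht ha, smul_zero] }
    rcases hirr W fun g hg x hx a α ht ha => by
      have := hx _ _ (ht.conj (inv_mem hg)) (Max.mulVec_ne_zero _ ha)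
      rwa [inv_inv, ← dotProduct_mulVec] at this with e | e
    · have : X ∈ W := fun a α ht ha => hc a α ht ha
      rw [e, Submodule.mem_bot] at this
      exact hX0 this
    · obtain ⟨i, hi⟩ := Function.ne_iff.1 hφ
      have : Pi.single i 1 ∈ W := e ▸ Submodule.mem_top
      exact hi (by simpa using this u φ h hu)
  obtain ⟨hS0, hσX⟩ := hσS
  have hσ0 : σ ≠ 0 := fun e => hσX (by rw [e, zero_dotProduct])
  -- every point of the line is a centre with axis through `X`
  obtain ⟨z, ζ, hz0, hζ0, hzt, hζX, hσz⟩ : ∃ z ζ : Vec, z ≠ 0 ∧ ζ ≠ 0 ∧ Tr M z ζ ∧ ζ ⬝ᵥ X = 0 ∧ σ ⬝ᵥ z = 0 := by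
    by_cases hσu : σ ⬝ᵥ u = 0
    · exact ⟨u, φ, hu, hφ, h, hX1, hσu⟩
    -- translate `w` along `u`
    set c := -(σ ⬝ᵥ w) / ((σ ⬝ᵥ u) * (φ ⬝ᵥ w)) with hc
    obtain ⟨-, m, hm, hmx⟩ := tr_smul hp h c
    have hmX : (m : Mat) *ᵥ X = X := by rw [hmx, smul_dotProduct, hX1, smul_zero, zero_smul, add_zero]
    have hmX' : ((m⁻¹ : GL3) : Mat) *ᵥ X = X := by
      conv_lhs => rw [← hmX]
      rw [Max.inv_mulVec_cancel]
    refine ⟨(m : Mat) *ᵥ w, ψ ᵥ* ((m⁻¹ : GL3) : Mat), Max.mulVec_ne_zero m hw0, fun e => hψ0 ?_, hwψ.conj hm, ?_, ?_⟩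
    · have := congrArg (fun v => v ᵥ* (m : Mat)) e
      simpa [Matrix.vecMul_vecMul] using this
    · rw [← dotProduct_mulVec, hmX']; exact hX2
    · rw [hmx, dotProduct_add, dotProduct_smul, smul_dotProduct, smul_eq_mul, smul_eq_mul, hc]
      field_simp
      ring
  have hζS : ζ ⬝ᵥ S = 0 := hsym hz0 hζ0 hσ0 hzt hS hσz
  by_cases hdep : ∃ c : F, S = c • z
  · obtain ⟨c, rfl⟩ := hdep
    have hc0 : c ≠ 0 := fun e => hS0 (by rw [e, zero_smul])
    obtain ⟨d, hd⟩ := huq hz0 hζ0 hzt (hS.swap hc0)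
    refine hσX ?_
    have : σ = (c⁻¹ * d) • ζ := by rw [← smul_smul, ← hd, inv_smul_smul₀ hc0]
    rw [this, smul_dotProduct, hζX, smul_zero]
  · push Not at hdep
    obtain ⟨d, hd⟩ := Singer.Thin.prop_of_two hζ0 hz0 hdep hzt.1 hζS hσz hS.1
    exact hσX (by rw [hd, smul_dotProduct, hζX, smul_zero])

end Cfsg.Agent.Forms.Max.SL3.Elation
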