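import Mathlib
import Cfsg.Agent.Lib.Forms.Max.LinearDecomp
import Cfsg.Agent.Lib.Forms.Max.SL3.Lines.Odd
import Cfsg.Agent.Lib.Forms.Max.SL3.Lines.Even

/-!
# Stabilisers of three lines are maximal in the special linear group of degree three

The homologies carried by the columns of an element have one coordinate, or, in odd characteristic, two of weight
one half; then the conjugate of a monomial element has a column with three.
-/

set_option autoImplicit false
set_option linter.unusedSectionVars false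

namespace Cfsg.Agent.Forms.Max.SL3.Lines

open Matrix Cfsg.Agent.Aschbacher Cfsg.Agent.Forms.Max Cfsg.Agent.Forms.Max.LinearMono
open Cfsg.Agent.Forms.Max.LinearDecomp (PermM glOf glOf_mulVec pr)

variable {F : Type*} [Field F] [Fintype F]

theorem exists_param (hq : 5 ≤ Fintype.card F) (h2 : (2 : F) = 0) :
    ∃ a μ : F, a ^ 3 * μ = 1 ∧ μ ^ 3 ≠ 1 := by
  classical
  obtain ⟨b, hb⟩ : ∃ b : F, b ≠ 0 ∧ b ^ 9 ≠ 1 := by
    by_contra hc
    push Not at hc
    have hsub : (Finset.univ : Finset F).erase 0 ⊆ (Polynomial.X ^ 9 - Polynomial.C (1 : F)).roots.toFinset :=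
      fun x hx => by
        rw [Multiset.mem_toFinset, Polynomial.mem_roots (Polynomial.X_pow_sub_C_ne_zero (by norm_num : 0 < 9) 1)]
        simp [hc x (Finset.ne_of_mem_erase hx)]
    have h4 := (Finset.card_le_card hsub).trans ((Multiset.toFinset_card_le _).trans
      ((Polynomial.card_roots' _).trans (by rw [Polynomial.natDegree_X_pow_sub_C])))
    rw [Finset.card_erase_of_mem (Finset.mem_univ _), Finset.card_univ] at h4
    haveI : CharP F 2 := by
      obtain ⟨p, hp⟩ := CharP.exists F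
      have hd : p ∣ 2 := (CharP.cast_eq_zero_iff F p 2).1 (by exact_mod_cast h2)
      rcases (Nat.dvd_prime Nat.prime_two).1 hd with e | e
      · exact absurd e (CharP.char_ne_one F p)
      · exact e ▸ hp
    obtain ⟨n, -, hn⟩ := FiniteField.card F 2
    have h8 : Fintype.card F = 8 := by
      have hle : (n : ℕ) < 4 := by
        by_contra h
        have := Nat.pow_le_pow_right (show 1 ≤ 2 by norm_num) (not_lt.1 h)
        omega
      interval_cases h : (n : ℕ) <;> simp_all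
    -- the units have order seven
    obtain ⟨x, hx⟩ : (((Finset.univ : Finset F).erase 0).erase 1).Nonempty := by
      rw [← Finset.card_pos]
      have e2 := Finset.pred_card_le_card_erase (s := (Finset.univ : Finset F).erase 0) (a := (1 : F))
      have e3 := Finset.pred_card_le_card_erase (s := (Finset.univ : Finset F)) (a := (0 : F))
      rw [Finset.card_univ] at e3
      omega
    simp only [Finset.mem_erase, Finset.mem_univ, and_true] at hx
    have h7 := FiniteField.pow_card_sub_one_eq_one x hx.2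
    rw [h8] at h7
    have h9 := hc x hx.2
    have hsq : (x - 1) ^ 2 = 0 := by linear_combination h9 - x ^ 2 * h7 + (1 - x) * h2
    exact hx.1 (sub_eq_zero.1 ((pow_eq_zero_iff (n := 2) (by norm_num)).1 hsq))
  obtain ⟨hb0, hb9⟩ := hb
  refine ⟨b, (b ^ 3)⁻¹, mul_inv_cancel₀ (pow_ne_zero _ hb0), ?_⟩
  rw [inv_pow, ← pow_mul]
  exact fun e => hb9 (inv_eq_one.1 e)

/-- three lines -/
theorem mono_le {M : Subgroup (GL (Fin 3) F)} (hN : AboveMono M) (hq : 5 ≤ Fintype.card F) {g : GL (Fin 3) F}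
    (hg : g ∈ M) (hgm : ¬ Mono g) : Cfsg.Geo.specialLinear (Fin 3) F ≤ M := by
  classical
  by_contra hno
  have hcol : ∀ {a μ : F}, Std M a μ → ∀ {x : GL (Fin 3) F}, x ∈ M → ∀ k,
      Hy M a μ (fun i => (x : Matrix (Fin 3) (Fin 3) F) i k)
        (fun i => ((x⁻¹ : GL (Fin 3) F) : Matrix (Fin 3) (Fin 3) F) k i) := fun {a μ} S {x} hx k => by
    have := hy_conj (hy_axis S k) hx
    rwa [show (x : Matrix (Fin 3) (Fin 3) F) *ᵥ E F k = fun i => (x : Matrix (Fin 3) (Fin 3) F) i k from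
      funext fun i => LinearMono.col_apply x i k, show E F k ᵥ* ((x⁻¹ : GL (Fin 3) F) : Matrix (Fin 3) (Fin 3) F) =
      fun i => ((x⁻¹ : GL (Fin 3) F) : Matrix (Fin 3) (Fin 3) F) k i from funext fun i => row_apply x⁻¹ k i] at this
  obtain ⟨p, i, j, hij, hi, hj⟩ : ∃ p i j, i ≠ j ∧ (g : Matrix (Fin 3) (Fin 3) F) i p ≠ 0 ∧
      (g : Matrix (Fin 3) (Fin 3) F) j p ≠ 0 := by
    by_contra hc
    push Not at hc
    refine hgm fun p => ?_
    by_cases h : ∃ i, (g : Matrix (Fin 3) (Fin 3) F) i p ≠ 0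
    · obtain ⟨i, hi⟩ := h
      exact ⟨i, fun k hk => hc p i k hk.symm hi⟩
    · push Not at h; exact ⟨0, fun k _ => h k⟩
  by_cases h2 : (2 : F) = 0
  · obtain ⟨a, μ, hp, hμ⟩ := exists_param hq h2
    have S : Std M a μ := ⟨hN, hp, fun e => hμ (by rw [e, one_pow]), hno⟩
    exact no_two₂ S hμ h2 (hcol S hg p) hij hi hj
  have S : Std M (-1 : F) (-1) := ⟨hN, by ring, fun e => h2 (by linear_combination -e), hno⟩
  obtain ⟨k, hd⟩ := others_two hij
  obtain ⟨d1, d2, d3⟩ := id hd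
  obtain ⟨hkp, hvi, hvj⟩ := supp_half S rfl h2 (hcol S hg p) hd hi hj
  have hb := bal S (hcol S hg p)
  have hgpi : ((g⁻¹ : GL (Fin 3) F) : Matrix (Fin 3) (Fin 3) F) p i ≠ 0 := fun e => hi ((hb i).2 e)
  have hmul : (g : Matrix (Fin 3) (Fin 3) F) * ((g⁻¹ : GL (Fin 3) F) : Matrix (Fin 3) (Fin 3) F) = 1 := by
    rw [← Units.val_mul, mul_inv_cancel, Units.val_one]
  have hmul' : ((g⁻¹ : GL (Fin 3) F) : Matrix (Fin 3) (Fin 3) F) * (g : Matrix (Fin 3) (Fin 3) F) = 1 := by
    rw [← Units.val_mul, inv_mul_cancel, Units.val_one]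
  -- a second column with the same support
  have hsame : ∀ q, q ≠ p → (g : Matrix (Fin 3) (Fin 3) F) i q ≠ 0 →
      (g : Matrix (Fin 3) (Fin 3) F) j q ≠ 0 ∧ (g : Matrix (Fin 3) (Fin 3) F) k q = 0 ∧
        2 * ((g : Matrix (Fin 3) (Fin 3) F) i q * ((g⁻¹ : GL (Fin 3) F) : Matrix (Fin 3) (Fin 3) F) q i) = 1 := by
    intro q hqp hiq
    have hjq : (g : Matrix (Fin 3) (Fin 3) F) j q ≠ 0 := fun e => by
      have h0 := congrFun (congrFun hmul' p) q
      rw [Matrix.mul_apply, sum_three hd, Matrix.one_apply_ne hqp.symm, e, mul_zero, add_zero, (hb k).1 hkp,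
        zero_mul, add_zero] at h0
      exact mul_ne_zero hgpi hiq h0
    obtain ⟨hk, hv, -⟩ := supp_half S rfl h2 (hcol S hg q) hd hiq hjq
    exact ⟨hjq, hk, hv⟩
  obtain ⟨q, r, hd', hiq, hir⟩ : ∃ q r, Dist p q r ∧ (g : Matrix (Fin 3) (Fin 3) F) i q ≠ 0 ∧
      (g : Matrix (Fin 3) (Fin 3) F) i r = 0 := by
    obtain ⟨q, r, hd'⟩ := others_one p
    obtain ⟨e1, e2, e3⟩ := id hd'
    have h0 := congrFun (congrFun hmul i) i
    rw [Matrix.mul_apply, sum_three hd', Matrix.one_apply_eq] at h0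
    by_cases a1 : (g : Matrix (Fin 3) (Fin 3) F) i q = 0 <;> by_cases a2 : (g : Matrix (Fin 3) (Fin 3) F) i r = 0
    · rw [a1, a2] at h0
      exact absurd (show (1 : F) = 0 by linear_combination hvi - 2 * h0) one_ne_zero
    · exact ⟨r, q, ⟨e2, e1, e3.symm⟩, a2, a1⟩
    · exact ⟨q, r, hd', a1, a2⟩
    · exact absurd (show (1 : F) = 0 by
        linear_combination 2 * h0 - hvi - (hsame q e1.symm a1).2.2 - (hsame r e2.symm a2).2.2) one_ne_zero
  obtain ⟨e1, e2, e3⟩ := id hd'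
  obtain ⟨hjq, hkq, hvq⟩ := hsame q e1.symm hiq
  have hri : ((g⁻¹ : GL (Fin 3) F) : Matrix (Fin 3) (Fin 3) F) r i = 0 := (bal S (hcol S hg r) i).1 hir
  have hjr : (g : Matrix (Fin 3) (Fin 3) F) j r = 0 := by
    have h0 := congrFun (congrFun hmul' p) r
    rw [Matrix.mul_apply, sum_three hd, Matrix.one_apply_ne e2, hir, mul_zero, zero_add, (hb k).1 hkp, zero_mul,
      add_zero] at h0
    exact (mul_eq_zero.1 h0).resolve_left fun e => hj ((hb j).2 e)
  have hkr : (g : Matrix (Fin 3) (Fin 3) F) k r ≠ 0 := fun e => by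
    have h0 := congrFun (congrFun hmul' r) r
    rw [Matrix.mul_apply, sum_three hd, Matrix.one_apply_eq, hir, hjr, e, mul_zero, mul_zero, mul_zero, add_zero,
      add_zero] at h0
    exact zero_ne_one h0
  -- move the third column in
  set s : Fin 3 → Fˣ := fun x => if x = q then -1 else 1 with hs
  have hm : mon (Equiv.swap p r) s ∈ M := mon_mem hN (by
    rw [Equiv.Perm.sign_swap e2, prod_three hd']
    simp [hs, e1, e3.symm])
  set x := g * mon (Equiv.swap p r) s * g⁻¹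
  have hx : x ∈ M := mul_mem (mul_mem hg hm) (inv_mem hg)
  have hent : ∀ y, (x : Matrix (Fin 3) (Fin 3) F) y i =
      (g : Matrix (Fin 3) (Fin 3) F) y r * ((g⁻¹ : GL (Fin 3) F) : Matrix (Fin 3) (Fin 3) F) p i -
        (g : Matrix (Fin 3) (Fin 3) F) y q * ((g⁻¹ : GL (Fin 3) F) : Matrix (Fin 3) (Fin 3) F) q i := by
    intro y
    rw [Units.val_mul, Units.val_mul, Matrix.mul_apply, sum_three hd', hri, mul_zero, add_zero, Matrix.mul_apply,
      Matrix.mul_apply, sum_three hd', sum_three hd']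
    simp only [mon_apply, Equiv.swap_apply_left, Equiv.swap_apply_of_ne_of_ne e1.symm e3, hs]
    simp [e1, e1.symm, e2, e2.symm, e3, e3.symm]
    ring
  have hqi : ((g⁻¹ : GL (Fin 3) F) : Matrix (Fin 3) (Fin 3) F) q i ≠ 0 := fun e =>
    hiq ((bal S (hcol S hg q) i).2 e)
  refine no_three S rfl h2 (hcol S hx i) hd ?_ ?_ ?_
  · rw [hent, hir, zero_mul, zero_sub, neg_ne_zero]; exact mul_ne_zero hiq hqi
  · rw [hent, hjr, zero_mul, zero_sub, neg_ne_zero]; exact mul_ne_zero hjq hqi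
  · rw [hent, hkq, zero_mul, sub_zero]; exact mul_ne_zero hkr hgpi

theorem sl_le {D : Fin 3 → Submodule F (Fin 3 → F)} (hD : Cfsg.Geo.IsMDecomposition 1 D)
    {M : Subgroup (GL (Fin 3) F)} (hq : 5 ≤ Fintype.card F) (hM : PermM D M) {g : GL (Fin 3) F}
    (hg : g ∈ M) (hgs : g ∉ Cfsg.Geo.decompositionStabilizer D) : Cfsg.Geo.specialLinear (Fin 3) F ≤ M := by
  classical
  let e : (Σ _ : Fin 3, Fin 1) ≃ Fin 3 := ⟨fun x => x.1, fun i => ⟨i, 0⟩, fun x => by
    obtain ⟨i, k⟩ := x; simp [Subsingleton.elim k 0], fun i => rfl⟩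
  set B := (blockBasis hD).reindex e with hB
  have hBD : ∀ i, B i ∈ D i := fun i => by
    rw [hB, Module.Basis.reindex_apply]; exact blockBasis_mem hD i 0
  set P := glOf ((Pi.basisFun F (Fin 3)).equiv B (Equiv.refl _))
  have hP : ∀ i, (P : Matrix (Fin 3) (Fin 3) F) *ᵥ LinearMono.E F i = B i := fun i => by
    rw [glOf_mulVec, show LinearMono.E F i = Pi.basisFun F (Fin 3) i from (Pi.basisFun_apply F (Fin 3) i).symm,
      Module.Basis.equiv_apply]
    rfl
  have hspan : ∀ i, ∀ x ∈ D i, ∃ r : F, x = r • B i := fun i x hx => ⟨coord hD x i 0, by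
    conv_lhs => rw [← LinearDecomp.pr_self hD hx]
    show ∑ k, coord hD x i k • blockBasis hD ⟨i, k⟩ = _
    rw [Fin.sum_univ_one, hB, Module.Basis.reindex_apply]
    rfl⟩
  set M' := M.comap (MulAut.conj P).toMonoidHom
  have hdet : ∀ x : GL (Fin 3) F, ((P * x * P⁻¹ : GL (Fin 3) F) : Matrix (Fin 3) (Fin 3) F).det = (x : Matrix (Fin 3) (Fin 3) F).det := by
    intro x
    rw [Units.val_mul, Units.val_mul, Matrix.det_mul, Matrix.det_mul, mul_comm, ← mul_assoc, ← Matrix.det_mul,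
      ← Units.val_mul, inv_mul_cancel, Units.val_one, Matrix.det_one, one_mul]
  have hmaps : ∀ (σ : Equiv.Perm (Fin 3)) (s : Fin 3 → Fˣ), ∀ i, ∀ x ∈ D i,
      ((P * LinearMono.mon σ s * P⁻¹ : GL (Fin 3) F) : Matrix (Fin 3) (Fin 3) F) *ᵥ x ∈ D (σ i) := by
    intro σ s i x hx
    obtain ⟨r, rfl⟩ := hspan i x hx
    rw [← hP, ← mulVec_smul, mulVec_mul_GL, mulVec_mul_GL, inv_mulVec_cancel, mulVec_smul, mulVec_smul]
    refine Submodule.smul_mem _ _ ?_
    rw [show (LinearMono.mon σ s : Matrix (Fin 3) (Fin 3) F) *ᵥ LinearMono.E F i = (s i : F) • LinearMono.E F (σ i) from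
      funext fun k => by
        rw [LinearMono.col_apply, LinearMono.mon_apply]
        by_cases hk : k = σ i <;> simp [hk], mulVec_smul, hP]
    exact Submodule.smul_mem _ _ (hBD _)
  have hN : LinearMono.AboveMono M' := by
    intro x hx hmono
    obtain ⟨σ, s, rfl⟩ := hmono.exists_mon
    exact hM _ (Aschbacher.mem_specialLinear.2 (by
      show ((P * LinearMono.mon σ s * P⁻¹ : GL (Fin 3) F) : Matrix (Fin 3) (Fin 3) F).det = 1
      rw [hdet]; exact Aschbacher.mem_specialLinear.1 hx)) ⟨σ, hmaps σ s⟩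
  have hg' : P⁻¹ * g * P ∈ M' := by
    show P * (P⁻¹ * g * P) * P⁻¹ ∈ M
    convert hg using 1
    group
  have hgm : ¬ LinearMono.Mono (P⁻¹ * g * P) := fun hmono => by
    obtain ⟨σ, s, hs⟩ := hmono.exists_mon
    refine hgs (LinearDecomp.stab_of_maps hD (σ := σ) fun i x hx => ?_)
    have := hmaps σ s i x hx
    rwa [← hs, show P * (P⁻¹ * g * P) * P⁻¹ = g by group] at this
  have hle := mono_le hN hq hg' hgm
  intro x hx
  have : P⁻¹ * x * P ∈ M' := hle (Aschbacher.mem_specialLinear.2 (by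
    have := hdet (P⁻¹ * x * P)
    rw [show P * (P⁻¹ * x * P) * P⁻¹ = x by group] at this
    rw [← this]; exact Aschbacher.mem_specialLinear.1 hx))
  have h2 : P * (P⁻¹ * x * P) * P⁻¹ ∈ M := this
  rwa [show P * (P⁻¹ * x * P) * P⁻¹ = x by group] at h2

/-- maximality -/
theorem maximal (hq : 5 ≤ Fintype.card F) (D : Fin 3 → Submodule F (Fin 3 → F))
    (hD : Cfsg.Geo.IsMDecomposition 1 D) :
    Cfsg.Geo.IsMaximalIn (Cfsg.Geo.specialLinear (Fin 3) F)
      (Cfsg.Geo.decompositionStabilizer D ⊓ Cfsg.Geo.specialLinear (Fin 3) F) := by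
  classical
  refine isMaximalIn_of inf_le_right (fun hle => ?_) fun N hN hNK g hgN hg => ?_
  · let i₀ : Fin 3 := 0
    let j₀ : Fin 3 := 1
    have hij : i₀ ≠ j₀ := by decide
    let k₀ : Fin 1 := ⟨0, hD.pos⟩
    set a := blockBasis hD ⟨i₀, k₀⟩
    set b := blockBasis hD ⟨j₀, k₀⟩
    have ha0 : a ≠ 0 := (blockBasis hD).ne_zero _
    have hb0 : b ≠ 0 := (blockBasis hD).ne_zero _
    obtain ⟨ψ, -, hψb, hψo⟩ := LinearDecomp.exists_row_in hD (v := b) (blockBasis_mem hD j₀ k₀) bot_le (by simpa using hb0)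
    have hψa : ψ ⬝ᵥ a = 0 := hψo i₀ hij a (blockBasis_mem hD i₀ k₀)
    obtain ⟨σ, hσ⟩ := (hle (trv_mem_SL a ψ hψa)).1
    have hmem : (trv a ψ hψa : Matrix (Fin 3) (Fin 3) F) *ᵥ b ∈ D (σ j₀) := by
      rw [← hσ j₀]; exact ⟨b, blockBasis_mem hD j₀ k₀, Matrix.toLin'_apply _ _⟩
    rw [trv_mulVec, hψb, one_smul] at hmem
    have hA := blockBasis_mem hD i₀ k₀
    have hB := blockBasis_mem hD j₀ k₀
    rcases eq_or_ne (σ j₀) i₀ with e | e
    · have := LinearDecomp.pr_other hD (l := j₀) hij.symm (e ▸ hmem)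
      rw [map_add, LinearDecomp.pr_self hD hB, LinearDecomp.pr_other hD hij.symm hA, add_zero] at this
      exact hb0 this
    · have := LinearDecomp.pr_other hD (l := i₀) e.symm hmem
      rw [map_add, LinearDecomp.pr_self hD hA, LinearDecomp.pr_other hD hij hB, zero_add] at this
      exact ha0 this
  · have hgs : g ∉ Cfsg.Geo.decompositionStabilizer D := fun h => hg ⟨h, hNK hgN⟩
    exact sl_le hD hq (fun x hx ⟨σ, hσ⟩ => hN ⟨LinearDecomp.stab_of_maps hD hσ, hx⟩) hgN hgs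

end Cfsg.Agent.Forms.Max.SL3.Lines
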