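import Mathlib
import Cfsg.Agent.Lib.Forms.Max.SL3.Orth.Root

/-!
# Orthogonal similarity groups are maximal in SL₃, odd characteristic

An element that is no similarity has an inverse sending a non-singular vector to a singular one.  The conjugate
negated reflection and its image under a unipotent element of that point differ by a transvection.
-/

set_option autoImplicit false
set_option linter.unusedSectionVars false

namespace Cfsg.Agent.Forms.Max.SL3.Orth

open Matrix Cfsg.Agent.Aschbacher Cfsg.Agent.Forms.Max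
open Cfsg.Agent.Forms.Max.OrthInLinear (add_l add_r sub_l sub_r smul_l smul_r zero_l zero_r self2
  form mem_perp_span exists_repr le_finrank_perp)

variable {F : Type*} [Field F] [Fintype F] {ι : Type} [Fintype ι] [DecidableEq ι]
variable {Q : QuadraticForm F (ι → F)}

local notation "Vec" => (ι → F)
local notation "B" => QuadraticMap.polar Q

variable (hQ : (QuadraticMap.polarBilin Q).Nondegenerate)
include hQ

theorem sl_le (h2 : (2 : F) ≠ 0) (hι : Fintype.card ι = 3) {M : Subgroup (GL ι F)} (hM : Has Q M) {g : GL ι F}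
    (hg : g ∈ M) (hgs : ¬ ∃ c : Fˣ, ∀ v, Q ((g : Matrix ι ι F) *ᵥ v) = (c : F) * Q v) :
    Cfsg.Geo.specialLinear ι F ≤ M := by
  classical
  obtain ⟨s₀, -, hs₀, hqs₀⟩ := Orth.exists_sing hQ (S := ⊤)
    (by rw [finrank_top, Module.finrank_fintype_fun_eq_card]; omega)
  obtain ⟨f₀, -⟩ := exists_frame hQ h2 hι hs₀ hqs₀
  obtain ⟨u, hu, hgu⟩ : ∃ u, Q u = 0 ∧ Q ((g : Matrix ι ι F) *ᵥ u) ≠ 0 := by
    by_contra hc
    push Not at hc
    exact hgs (similarity_of_sing hQ f₀ g hc)
  set b := (g : Matrix ι ι F) *ᵥ u with hb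
  have hu0 : u ≠ 0 := fun e => hgu (by rw [hb, e, mulVec_zero, QuadraticMap.map_zero])
  obtain ⟨f, rfl⟩ := exists_frame hQ h2 hι hu0 hu
  obtain ⟨r, hr, er⟩ := hM.neg_refl b hgu
  obtain ⟨φb, hφb⟩ := exists_row (form Q b)
  set χ : Vec := (Q b)⁻¹ • (φb ᵥ* (g : Matrix ι ι F)) with hχ
  have hY : g⁻¹ * r * g ∈ M := mul_mem (mul_mem (inv_mem hg) hr) hg
  have eY : ∀ x, ((g⁻¹ * r * g : GL ι F) : Matrix ι ι F) *ᵥ x = (χ ⬝ᵥ x) • f.s - x := fun x => by
    refine mulVec_inj g ?_
    rw [mulVec_mul_GL, mulVec_mul_GL, mulVec_inv_cancel, er, mulVec_sub, mulVec_smul, ← hb, hχ, smul_dotProduct,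
      ← dotProduct_mulVec, hφb, smul_eq_mul]
    rw [show form Q b ((g : Matrix ι ι F) *ᵥ x) = B ((g : Matrix ι ι F) *ᵥ x) b from rfl, comm]
  have hχs : χ ⬝ᵥ f.s = 2 := by
    rw [hχ, smul_dotProduct, ← dotProduct_mulVec, hφb, ← hb, show form Q b b = B b b from rfl, self2, smul_eq_mul]
    field_simp
  obtain ⟨k, hk, ks, kis, kie, -⟩ := exists_unip hM f 1
  set ψ := χ - χ ᵥ* ((k⁻¹ : GL ι F) : Matrix ι ι F) with hψ
  have hψs : ψ ⬝ᵥ f.s = 0 := by rw [hψ, sub_dotProduct, ← dotProduct_mulVec, kis, sub_self]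
  have hroot : Rt M f.s ψ := by
    refine ⟨hψs, (k * (g⁻¹ * r * g) * k⁻¹) * (g⁻¹ * r * g),
      mul_mem (mul_mem (mul_mem hk hY) (inv_mem hk)) hY, fun x => ?_⟩
    rw [mulVec_mul_GL, eY, mulVec_mul_GL, mulVec_mul_GL, eY, mulVec_sub, mulVec_smul, ks, mulVec_inv_cancel,
      mulVec_sub, mulVec_smul, kis, dotProduct_sub, dotProduct_smul, hχs, hψ, sub_dotProduct, dotProduct_mulVec]
    simp only [smul_eq_mul]
    module
  have hψe : ψ ⬝ᵥ f.e ≠ 0 := by
    rw [hψ, sub_dotProduct, ← dotProduct_mulVec, kie, dotProduct_add, dotProduct_smul, hχs, smul_eq_mul,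
      sub_add_cancel_left, neg_ne_zero]
    exact mul_ne_zero (mul_ne_zero (mul_ne_zero h2 one_ne_zero) f.qe) h2
  -- every singular vector is a centre
  have hsing : ∀ v, v ≠ 0 → Q v = 0 → v ∈ centres M := by
    intro v hv0 hv
    by_cases hvs : B v f.s = 0
    · have hcoord := f.expand v
      rw [hvs, zero_smul, add_zero] at hcoord
      have he : QuadraticMap.polar Q v f.e = 0 := by
        have := congrArg Q hcoord
        rw [hv, Classical.Orth.map_add', Classical.Orth.map_smul', Classical.Orth.map_smul', smul_l, smul_r, f.qs, f.se,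
          mul_zero, mul_zero, mul_zero, zero_add, add_zero] at this
        by_contra hne
        exact mul_ne_zero (mul_self_ne_zero.2 (div_ne_zero hne (mul_ne_zero h2 f.qe))) f.qe this.symm
      rw [he, zero_div, zero_smul, add_zero] at hcoord
      rw [hcoord]
      exact centres_smul _ (centre_of_root hM f hroot hψe)
    · -- a product of two negated reflections carries `s` to a multiple of `v`
      have hq : Q (f.s - v) ≠ 0 := by
        rw [sub_eq_add_neg, ← neg_one_smul F v, Classical.Orth.map_add', Classical.Orth.map_smul', smul_r, f.qs, hv,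
          comm]
        simpa using hvs
      obtain ⟨y, hy, ey⟩ := hM.neg_refl (f.s - v) hq
      have hys : (y : Matrix ι ι F) *ᵥ f.s = (-1 : F) • v := by
        have hq' : Q (f.s - v) = -B v f.s := by
          rw [sub_eq_add_neg, ← neg_one_smul F v, Classical.Orth.map_add', Classical.Orth.map_smul', smul_r, f.qs, hv,
            comm]
          ring
        rw [ey, hq', sub_l, f.ss, zero_sub]
        match_scalars <;> field_simp <;> ring
      have hc := centres_smul (-1 : F) (centres_map hy (centre_of_root hM f hroot hψe))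
      rwa [hys, smul_smul, neg_one_mul, neg_neg, one_smul] at hc
  refine specialLinear_le_of_centres fun w => ?_
  rcases eq_or_ne w 0 with rfl | hw0
  · have := centres_smul (0 : F) (hsing f.s f.s0 f.qs)
    rwa [zero_smul] at this
  by_cases hqw : Q w = 0
  · exact hsing w hw0 hqw
  -- a secant through `w`
  obtain ⟨s, hs0, hqs, hws⟩ : ∃ s, s ≠ 0 ∧ Q s = 0 ∧ B w s ≠ 0 := by
    by_contra hc
    push Not at hc
    have a1 := hc f.s f.s0 f.qs
    have a2 := hc f.t (fun e => by have := f.st; rw [e, zero_r] at this; exact zero_ne_one this) f.qt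
    have hp := f.qpoint (x := (1 : F)) (y := -Q f.e) (one_mul _)
    have a3 := hc _ (fun e => by
      have := congrArg (fun x => B x f.t) e
      simp only [add_l, smul_l, f.st, f.tt, f.et, zero_l, mul_zero, mul_one, add_zero] at this
      exact one_ne_zero this) hp
    rw [add_r, add_r, smul_r, smul_r, a1, a2, mul_zero, mul_zero, zero_add, zero_add] at a3
    exact hw0 (by rw [f.expand w, a1, a2, a3, zero_div, zero_smul, zero_smul, zero_smul, add_zero, add_zero])
  set c := Q w / B w s with hc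
  set s' := w - c • s with hs'
  have hss : B s s = 0 := by rw [self2, hqs, mul_zero]
  have hqs' : Q s' = 0 := by
    rw [hs', sub_eq_add_neg, ← neg_smul, Classical.Orth.map_add', Classical.Orth.map_smul', smul_r, hqs, hc]
    field_simp
    ring
  have hs's : B s' s = B w s := by rw [hs', sub_l, smul_l, hss, mul_zero, sub_zero]
  obtain ⟨φs, hφs⟩ := exists_row (form Q s)
  set φ := (B w s)⁻¹ • φs with hφ
  have hφs0 : φ ⬝ᵥ (c • s) = 0 := by
    rw [dotProduct_smul, hφ, smul_dotProduct, hφs, show form Q s s = B s s from rfl, hss, smul_zero, smul_zero]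
  have hmap : (trv (c • s) φ hφs0 : Matrix ι ι F) *ᵥ s' = w := by
    rw [trv_mulVec, hφ, smul_dotProduct, hφs, show form Q s s' = B s' s from rfl, hs's, smul_eq_mul,
      inv_mul_cancel₀ hws, one_smul, hs', sub_add_cancel]
  have hk := centres_smul c (hsing s hs0 hqs) φ hφs0
  rw [← hmap]
  exact centres_map hk (hsing s' (fun e => by rw [e, zero_l] at hs's; exact hws hs's.symm) hqs')

theorem similarity_maximal (h2 : (2 : F) ≠ 0) (hι : Fintype.card ι = 3)
    (H : Subgroup (GL ι F)) (hH : H ≤ Cfsg.Geo.specialLinear ι F)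
    (hmem : ∀ g : GL ι F, g ∈ H ↔ g ∈ Cfsg.Geo.specialLinear ι F ∧
      ∃ c : Fˣ, ∀ v, Q ((g : Matrix ι ι F) *ᵥ v) = (c : F) * Q v) :
    Cfsg.Geo.IsMaximalIn (Cfsg.Geo.specialLinear ι F) H := by
  classical
  have hrow : ∀ w : Vec, ∃ φ : Vec, ∀ x, φ ⬝ᵥ x = B x w := fun w => exists_row (form Q w)
  refine isMaximalIn_of hH (fun hle => ?_) fun M hM hMK g hgM hg => ?_
  · -- a transvection that is no similarity
    obtain ⟨u, -, hu0, hu⟩ := Orth.exists_sing hQ (S := ⊤)
      (by rw [finrank_top, Module.finrank_fintype_fun_eq_card]; omega)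
    have huu : B u u = 0 := by rw [self2, hu, mul_zero]
    obtain ⟨φ, hφ⟩ := hrow u
    obtain ⟨-, c, hc⟩ := (hmem _).1 (hle (trv_mem_SL u φ (by rw [hφ, huu])))
    have happ : ∀ x, Q ((trv u φ (by rw [hφ, huu]) : Matrix ι ι F) *ᵥ x) = Q x + B x u * B x u := by
      intro x
      rw [trv_mulVec, hφ, Classical.Orth.map_add', Classical.Orth.map_smul', hu, smul_r]
      ring
    obtain ⟨z, hz, hQz⟩ : ∃ z ∈ Orth.perp Q (Submodule.span F (Set.range ![u])), Q z ≠ 0 := by
      by_contra hc'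
      push Not at hc'
      have h1 := Orth.finrank_sing_le hQ hc'
      have := le_finrank_perp hQ ![u]
      omega
    have hzu : B z u = 0 := mem_perp_span.1 hz 0
    have h1 := hc z
    rw [happ, hzu, mul_zero, add_zero] at h1
    have hc1 : (c : F) = 1 := (mul_eq_right₀ hQz).1 h1.symm
    obtain ⟨x, hx⟩ := Orth.exists_ne hQ hu0
    have h3 := hc x
    rw [happ, hc1, one_mul, add_eq_left, comm] at h3
    exact hx (mul_self_eq_zero.1 h3)
  refine sl_le hQ h2 hι ⟨fun a ha => ?_, fun u w hu huw => ?_⟩ hgM fun h => hg ((hmem g).2 ⟨hMK hgM, h⟩)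
  · -- negated reflection
    set r : GL ι F := ((QuadStd.reflect Q a : Cfsg.isometryGroup F ⇑Q) : GL ι F)
    have hr : ∀ x, (r : Matrix ι ι F) *ᵥ x = x - ((Q a)⁻¹ * B a x) • a := fun x => by
      rw [← Reflections.act_reflect, Reflections.act_apply]
    refine ⟨-r, hM ((hmem _).2 ⟨?_, 1, fun v => ?_⟩), fun x => ?_⟩
    · rw [Aschbacher.mem_specialLinear, Units.val_neg, det_neg, hι]
      show (-1 : F) ^ 3 * (Cfsg.reflectionMatrix ⇑Q a).det = 1
      rw [QuadStd.reflection_det Q ha]; ring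
    · rw [Units.val_neg, neg_mulVec, QuadraticMap.map_neg, Units.val_one, one_mul, ← Reflections.act_apply,
        Reflections.act_map]
    · rw [Units.val_neg, neg_mulVec, hr, neg_sub]
  · -- Eichler elements
    have huu : B u u = 0 := by rw [self2, hu, mul_zero]
    have hwu : B w u = 0 := (comm _ _).trans huw
    obtain ⟨φ₁, hφ₁⟩ := hrow u
    obtain ⟨φ₂, hφ₂⟩ := hrow (Q w • u - w)
    have h₁ : φ₁ ⬝ᵥ w = 0 := by rw [hφ₁, hwu]
    have h₂ : φ₂ ⬝ᵥ u = 0 := by rw [hφ₂, sub_r, smul_r, huu, huw, mul_zero, sub_zero]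
    have happ : ∀ x, ((trv u φ₂ h₂ * trv w φ₁ h₁ : GL ι F) : Matrix ι ι F) *ᵥ x =
        x + B x u • w - (B x w + Q w * B x u) • u := fun x => by
      rw [mulVec_mul_GL, trv_mulVec, trv_mulVec, hφ₁, hφ₂]
      simp only [add_l, sub_r, smul_l, smul_r, self2 w, hwu, mul_zero, add_zero]
      module
    have hQk : ∀ x, Q (((trv u φ₂ h₂ * trv w φ₁ h₁ : GL ι F) : Matrix ι ι F) *ᵥ x) = Q x := fun x => by
      rw [happ, sub_eq_add_neg, ← neg_smul]
      simp only [Classical.Orth.map_add', Classical.Orth.map_smul', hu, add_l, smul_l, smul_r, hwu]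
      ring
    exact ⟨_, hM ((hmem _).2 ⟨mul_mem (trv_mem_SL _ _ _) (trv_mem_SL _ _ _), 1,
      fun x => by rw [hQk, Units.val_one, one_mul]⟩), happ⟩

end Cfsg.Agent.Forms.Max.SL3.Orth

namespace Cfsg.Agent.Forms.Max.SL3.Orth

/-- the conjunct -/
theorem orth_maximal {F : Type*} [Field F] [Fintype F] :
    Odd (Fintype.card F) → ∀ Q : (Fin 3 → F) → F, Cfsg.Geo.IsNondegenerateQuadraticForm Q →
      Cfsg.Geo.IsMaximalIn (Cfsg.Geo.specialLinear (Fin 3) F)
        (Cfsg.Geo.quadSimilarityGroup Q ⊓ Cfsg.Geo.specialLinear (Fin 3) F) := by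
  intro hodd Q hQ
  obtain ⟨R, rfl, hR⟩ := Max.Orth.exists_form hQ
  have h2 : (2 : F) ≠ 0 := Ring.two_ne_zero fun h => by
    have he := FiniteField.even_card_of_char_two (F := F) h
    rw [Nat.odd_iff] at hodd
    omega
  exact similarity_maximal hR h2 (Fintype.card_fin 3) _ inf_le_right
    fun g => ⟨fun h => ⟨h.2, h.1⟩, fun h => ⟨h.2, h.1⟩⟩

end Cfsg.Agent.Forms.Max.SL3.Orth
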