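import Mathlib
import Cfsg.Prelude.Def_GeometricClasses
import Cfsg.Agent.Lib.Forms.Max.SubfieldLinear

/-!
# Subfield groups are maximal in the special linear group of dimension three
-/

set_option autoImplicit false
set_option linter.unusedSectionVars false

namespace Cfsg.Agent.Forms.Max.SL3.Subfield

open Matrix Cfsg.Agent.Aschbacher Cfsg.Agent.Forms.Max.SubfieldLinear

variable {ι : Type} [Fintype ι] [DecidableEq ι] {F : Type*} [Field F]
variable {F₀ : Subfield F} {M : Subgroup (GL ι F)} {u φ : ι → F}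

theorem rp_scale {v : ι → F} (h : RP F₀ M v φ) (s : F₀) : RP F₀ M v ((s : F) • φ) := by
  refine ⟨by rw [smul_dotProduct, h.1, smul_zero], fun t => ?_⟩
  obtain ⟨m, hm, e⟩ := h.2 (t * s)
  refine ⟨m, hm, fun x => ?_⟩
  rw [e, smul_dotProduct, smul_eq_mul, MulMemClass.coe_mul, mul_assoc]

theorem coe_inv_sub (F₀ : Subfield F) (t : F₀) : ((t⁻¹ : F₀) : F) = (t : F)⁻¹ := rfl

/-- a non-zero rational functional killing two vectors -/
theorem avoid_zero (h3 : 3 ≤ Fintype.card ι) (a b : ι → F₀) :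
    ∃ γ : ι → F₀, γ ⬝ᵥ a = 0 ∧ γ ⬝ᵥ b = 0 ∧ γ ≠ 0 := by
  let L : (ι → F₀) →ₗ[F₀] F₀ × F₀ :=
    { toFun := fun γ => (γ ⬝ᵥ a, γ ⬝ᵥ b)
      map_add' := fun x y => by simp [add_dotProduct]
      map_smul' := fun t x => by simp [smul_dotProduct] }
  have hker : LinearMap.ker L ≠ ⊥ := LinearMap.ker_ne_bot_of_finrank_lt (by
    rw [Module.finrank_fintype_fun_eq_card, Module.finrank_prod, Module.finrank_self]; omega)
  obtain ⟨γ, hγ, hγ0⟩ := Submodule.exists_mem_ne_zero_of_ne_bot hker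
  have h := LinearMap.mem_ker.1 hγ
  exact ⟨γ, congrArg Prod.fst h, congrArg Prod.snd h, hγ0⟩

/-- a rational functional outside a line, killing a vector -/
theorem avoid_line (h3 : 3 ≤ Fintype.card ι) (a c : ι → F₀) :
    ∃ γ : ι → F₀, γ ⬝ᵥ a = 0 ∧ γ ∉ Submodule.span F₀ (Set.range ![c]) := by
  by_contra hc
  push Not at hc
  let L : (ι → F₀) →ₗ[F₀] F₀ :=
    { toFun := fun γ => γ ⬝ᵥ a
      map_add' := fun x y => add_dotProduct x y a
      map_smul' := fun t x => smul_dotProduct t x a }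
  have h1 := Submodule.finrank_mono (show LinearMap.ker L ≤ Submodule.span F₀ (Set.range ![c]) from fun γ hγ => hc γ hγ)
  have h2 : Module.finrank F₀ (Submodule.span F₀ (Set.range ![c])) ≤ 1 :=
    (finrank_range_le_card ![c]).trans_eq (Fintype.card_fin 1)
  have h7 := LinearMap.finrank_range_add_finrank_ker L
  have h8 := Submodule.finrank_le (LinearMap.range L)
  rw [Module.finrank_self] at h8
  rw [Module.finrank_fintype_fun_eq_card] at h7
  omega

/-- the functionals killing a non-zero vector form a plane -/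
theorem span_perp (hn : Fintype.card ι = 3) {b γ₁ γ₂ : ι → F₀} (hb : b ≠ 0) (h1 : γ₁ ≠ 0)
    (h2 : γ₂ ∉ Submodule.span F₀ (Set.range ![γ₁])) (e1 : γ₁ ⬝ᵥ b = 0) (e2 : γ₂ ⬝ᵥ b = 0)
    (δ : ι → F₀) (hδ : δ ⬝ᵥ b = 0) : ∃ p q : F₀, δ = p • γ₁ + q • γ₂ := by
  let L : (ι → F₀) →ₗ[F₀] F₀ :=
    { toFun := fun γ => γ ⬝ᵥ b
      map_add' := fun x y => add_dotProduct x y b
      map_smul' := fun t x => smul_dotProduct t x b }
  have hker : Module.finrank F₀ (LinearMap.ker L) ≤ 2 := by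
    have h7 := LinearMap.finrank_range_add_finrank_ker L
    rw [Module.finrank_fintype_fun_eq_card, hn] at h7
    have h8 : LinearMap.range L ≠ ⊥ := fun e => by
      obtain ⟨i, hi⟩ := Function.ne_iff.1 hb
      have : L (Pi.single i 1) ∈ LinearMap.range L := ⟨_, rfl⟩
      rw [e, Submodule.mem_bot] at this
      exact hi ((single_one_dotProduct i b).symm.trans this)
    have h9 : 1 ≤ Module.finrank F₀ (LinearMap.range L) := Submodule.one_le_finrank_iff.2 h8
    omega
  have hli : LinearIndependent F₀ ![γ₁, γ₂] := by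
    rw [LinearIndependent.pair_iff' h1]
    intro t ht
    refine h2 ?_
    rw [Matrix.range_cons, Matrix.range_empty, Set.union_empty, Submodule.mem_span_singleton]
    exact ⟨t, ht⟩
  have hle : Submodule.span F₀ (Set.range ![γ₁, γ₂]) ≤ LinearMap.ker L := by
    rw [Submodule.span_le]
    rintro _ ⟨i, rfl⟩
    fin_cases i
    exacts [e1, e2]
  have heq := Submodule.eq_of_le_of_finrank_le hle (by
    rw [finrank_span_eq_card hli, Fintype.card_fin]; exact hker)
  have hmem : δ ∈ Submodule.span F₀ (Set.range ![γ₁, γ₂]) := heq ▸ (show δ ∈ LinearMap.ker L from hδ)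
  rw [range_cons_cons_empty, Submodule.mem_span_pair] at hmem
  obtain ⟨p, q, h⟩ := hmem
  exact ⟨p, q, h.symm⟩

variable [Fintype F]

/-- no quadratic irrationality in an extension of prime degree at least three -/
theorem quad_mem (F₀ : Subfield F) {r : ℕ} (hr : r.Prime) (hcard : Fintype.card F = Nat.card F₀ ^ r)
    (h3 : 3 ≤ Module.finrank F₀ F) (k : F) (p q : F₀) (hk : k * k = (p : F) * k + (q : F)) : k ∈ F₀ := by
  classical
  let L : Subalgebra F₀ F :=
    { carrier := {x | ∃ a b : F₀, x = (a : F) + (b : F) * k}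
      one_mem' := ⟨1, 0, by simp⟩
      zero_mem' := ⟨0, 0, by simp⟩
      add_mem' := by
        rintro _ _ ⟨a, b, rfl⟩ ⟨a', b', rfl⟩
        exact ⟨a + a', b + b', by simp; ring⟩
      mul_mem' := by
        rintro _ _ ⟨a, b, rfl⟩ ⟨a', b', rfl⟩
        exact ⟨a * a' + b * b' * q, a * b' + a' * b + b * b' * p, by simp; linear_combination ((b : F) * b') * hk⟩
      algebraMap_mem' := fun t => ⟨t, 0, by simp; rfl⟩ }
  have hpr : (Module.finrank F₀ F).Prime := by
    have := Module.card_eq_pow_finrank (K := F₀) (V := F)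
    rw [hcard, Nat.card_eq_fintype_card] at this
    rw [← Nat.pow_right_injective Fintype.one_lt_card this]; exact hr
  haveI := Subalgebra.isSimpleOrder_of_finrank_prime F₀ F hpr
  rcases IsSimpleOrder.eq_bot_or_eq_top L with h | h
  · have hkL : k ∈ L := ⟨0, 1, by simp⟩
    rw [h, Algebra.mem_bot] at hkL
    obtain ⟨t, rfl⟩ := hkL
    exact t.2
  · exfalso
    have hspan : Submodule.span F₀ (Set.range ![(1 : F), k]) = ⊤ := by
      rw [eq_top_iff]
      intro x _
      have hx : x ∈ L := h ▸ Algebra.mem_top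
      obtain ⟨a, b, rfl⟩ := hx
      rw [range_cons_cons_empty, Submodule.mem_span_pair]
      exact ⟨a, b, by simp [Algebra.smul_def]; rfl⟩
    have h2 := finrank_range_le_card (R := F₀) ![(1 : F), k]
    rw [Fintype.card_fin, Set.finrank, hspan, finrank_top] at h2
    omega

omit [Fintype F]

variable (hM : ∀ a β : ι → F₀, β ⬝ᵥ a = 0 → RP F₀ M (ic F₀ a) (ic F₀ β))
include hM

/-- rational centre and irrational functional -/
theorem exists_of_rat_centre (h4 : 3 ≤ Fintype.card ι) {a : ι → F₀} (ha : a ≠ 0)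
    (h : RP F₀ M (ic F₀ a) φ) {j : ι} (hj : φ j ∉ F₀) :
    ∃ (a β : ι → F₀) (c : F), a ≠ 0 ∧ β ≠ 0 ∧ β ⬝ᵥ a = 0 ∧ c ∉ F₀ ∧ RP F₀ M (ic F₀ a) (c • ic F₀ β) := by
  obtain ⟨β, hβa, hβj, hβ⟩ := avoid_zero h4 a (Pi.single j 1)
  have hβ0 : β ≠ 0 := hβ
  have h1 := h.comm (hM _ β hβj) (by rw [ic_dot, hβa]; rfl)
  rw [ic_single, dotProduct_single_one] at h1
  exact ⟨a, β, φ j, ha, hβ0, hβa, hj, h1⟩

/-- irrational centre and rational functional -/
theorem exists_of_rat_functional (h4 : 3 ≤ Fintype.card ι) {β : ι → F₀} (hβ : β ≠ 0)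
    (h : RP F₀ M u (ic F₀ β)) {i : ι} (hi : u i ∉ F₀) :
    ∃ (a β : ι → F₀) (c : F), a ≠ 0 ∧ β ≠ 0 ∧ β ⬝ᵥ a = 0 ∧ c ∉ F₀ ∧ RP F₀ M (ic F₀ a) (c • ic F₀ β) := by
  obtain ⟨b, hb1, hb2, hb⟩ := avoid_zero h4 β (Pi.single i 1)
  have hb0 : b ≠ 0 := hb
  have h1 := (hM b (Pi.single i 1) (by rw [dotProduct_comm]; exact hb2)).comm h
    (by rw [ic_dot, dotProduct_comm, hb1]; rfl)
  rw [ic_single, single_one_dotProduct] at h1
  exact ⟨b, β, u i, hb0, hβ, by rw [dotProduct_comm]; exact hb1, hi, h1⟩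

/-- a centre killed by a rational functional -/
theorem exists_of_dep (h4 : 3 ≤ Fintype.card ι) (h : RP F₀ M u φ) {β : ι → F₀} (hβ : β ≠ 0)
    (hu : ic F₀ β ⬝ᵥ u = 0) (hR : ∃ i j, u i * φ j ∉ F₀) :
    ∃ (a β : ι → F₀) (c : F), a ≠ 0 ∧ β ≠ 0 ∧ β ⬝ᵥ a = 0 ∧ c ∉ F₀ ∧ RP F₀ M (ic F₀ a) (c • ic F₀ β) := by
  obtain ⟨i, j, hij⟩ := hR
  by_cases hex : ∃ a : ι → F₀, β ⬝ᵥ a = 0 ∧ φ ⬝ᵥ ic F₀ a ≠ 0
  · obtain ⟨a, ha, hφa⟩ := hex
    have h1 := h.comm (hM a β ha) hu
    set k := φ ⬝ᵥ ic F₀ a with hk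
    by_cases hrat : ∀ l, k * u l ∈ F₀
    · -- the centre is rational
      obtain ⟨b, hb⟩ : ∃ b : ι → F₀, ic F₀ b = k • u :=
        ⟨fun l => ⟨k * u l, hrat l⟩, rfl⟩
      have hb0 : b ≠ 0 := fun e => by
        have h0 : k * u i = 0 := (congrFun hb i).symm.trans (by rw [e]; rfl)
        rw [(mul_eq_zero.1 h0).resolve_left hφa, zero_mul] at hij
        exact hij (zero_mem _)
      have e : u = k⁻¹ • ic F₀ b := by rw [hb, inv_smul_smul₀ hφa]
      rw [e] at h
      refine exists_of_rat_centre hM h4 hb0 (h.smul_swap' (inv_ne_zero hφa)) (j := j) fun hmem => hij ?_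
      have := F₀.mul_mem (hrat i) hmem
      rwa [Pi.smul_apply, smul_eq_mul, mul_mul_mul_comm, mul_inv_cancel₀ hφa, one_mul] at this
    · push Not at hrat
      obtain ⟨l, hl⟩ := hrat
      exact exists_of_rat_functional hM h4 hβ (h1.smul_swap hφa) (i := l) hl
  · push Not at hex
    -- the functional is a multiple of `β`
    obtain ⟨l, hl⟩ := Function.ne_iff.1 hβ
    have hl' : ((β l : F₀) : F) ≠ 0 := fun e => hl (Subtype.ext e)
    have hφ : φ = (φ l / (β l : F)) • ic F₀ β := by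
      funext m
      have h0 := hex (β l • Pi.single m 1 - β m • Pi.single l 1) (by simp; ring)
      simp [ic, dotProduct, Finset.sum_sub_distrib, mul_sub, Pi.single_apply, apply_ite Subtype.val] at h0
      rw [Pi.smul_apply, smul_eq_mul, ic, div_mul_eq_mul_div, eq_div_iff hl']
      linear_combination h0
    rw [hφ] at h hij
    rcases eq_or_ne (φ l / (β l : F)) 0 with hk | hk
    · exact absurd (by rw [hk, zero_smul, Pi.zero_apply, mul_zero]; exact zero_mem _) hij
    refine exists_of_rat_functional hM h4 hβ (h.smul_swap hk) (i := i) fun hmem => hij ?_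
    have := F₀.mul_mem hmem (β j).2
    rw [Pi.smul_apply, smul_eq_mul] at this ⊢
    rwa [ic, mul_left_comm, ← mul_assoc]


end Cfsg.Agent.Forms.Max.SL3.Subfield

namespace Cfsg.Agent.Forms.Max.SL3.Subfield

open Matrix Cfsg.Agent.Aschbacher Cfsg.Agent.Forms.Max.SubfieldLinear

variable {ι : Type} [Fintype ι] [DecidableEq ι] {F : Type*} [Field F] [Fintype F]

theorem subfield_maximal_three (hn : Fintype.card ι = 3) (F₀ : Subfield F) {r : ℕ} (hr : r.Prime)
    (hcard : Fintype.card F = Nat.card F₀ ^ r)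
    (H : Subgroup (GL ι F)) (hH : H ≤ Cfsg.Geo.specialLinear ι F)
    (hlow : ∀ g ∈ Cfsg.Geo.specialLinear ι F,
      (∃ k : F, k ≠ 0 ∧ ∀ i j, k * (g : Matrix ι ι F) i j ∈ F₀) → g ∈ H)
    (hhigh : ∀ g ∈ H, ∃ k : F, k ≠ 0 ∧ ∀ i j, k * (g : Matrix ι ι F) i j ∈ F₀) :
    Cfsg.Geo.IsMaximalIn (Cfsg.Geo.specialLinear ι F) H := by
  classical
  have h4 : 3 ≤ Fintype.card ι := hn.ge
  obtain ⟨i₀, j₀, l₀, hij, hil, hjl⟩ : ∃ i j l : ι, i ≠ j ∧ i ≠ l ∧ j ≠ l :=
    Fintype.two_lt_card_iff.1 (by omega)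
  have hF₀ : ∃ c : F, c ∉ F₀ := by
    by_contra hc
    push Not at hc
    have e : Nat.card F₀ = Fintype.card F := by
      rw [← Nat.card_eq_fintype_card]; exact Nat.card_congr (Equiv.subtypeUnivEquiv hc)
    rw [e] at hcard
    exact absurd ((Nat.pow_eq_self_iff Fintype.one_lt_card).1 hcard.symm) hr.ne_one
  refine isMaximalIn_of hH (fun hle => ?_) fun M hM hMK g hgM hg => ?_
  · -- an irrational transvection
    obtain ⟨c, hc⟩ := hF₀
    have h0 : (c • Pi.single j₀ 1 : ι → F) ⬝ᵥ Pi.single i₀ 1 = 0 := by simp [hij]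
    obtain ⟨k, hk, hkF⟩ := hhigh _ (hle (trv_mem_SL (Pi.single i₀ 1) (c • Pi.single j₀ 1) h0))
    have h1 := hkF l₀ l₀
    have h2 := hkF i₀ j₀
    rw [trv_coe] at h1 h2
    simp [vecMulVec_apply, hil.symm, hij] at h1 h2
    refine hc ?_
    have := F₀.mul_mem (F₀.inv_mem h1) h2
    rwa [inv_mul_cancel_left₀ hk] at this
  have hrat : ∀ a β : ι → F₀, β ⬝ᵥ a = 0 → RP F₀ M (ic F₀ a) (ic F₀ β) := fun a β h => by
    have h' : ic F₀ β ⬝ᵥ ic F₀ a = 0 := by rw [ic_dot, h]; rfl
    refine ⟨h', fun t => ?_⟩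
    refine ⟨trv (ic F₀ a) ((t : F) • ic F₀ β) (by rw [smul_dotProduct, h', smul_zero]),
      hM (hlow _ (trv_mem_SL _ _ _) ⟨1, one_ne_zero, fun i j => ?_⟩),
      fun x => by rw [trv_mulVec, smul_dotProduct, smul_eq_mul]⟩
    rw [one_mul, trv_coe, Matrix.add_apply, vecMulVec_apply]
    refine F₀.add_mem ?_ (F₀.mul_mem (a i).2 (F₀.mul_mem t.2 (β j).2))
    rw [Matrix.one_apply]; split_ifs
    exacts [one_mem _, zero_mem _]
  obtain ⟨a₀, β₀, c, ha₀, hβ₀, hβa₀, hc, p₀⟩ : ∃ (a β : ι → F₀) (c : F),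
      a ≠ 0 ∧ β ≠ 0 ∧ β ⬝ᵥ a = 0 ∧ c ∉ F₀ ∧ RP F₀ M (ic F₀ a) (c • ic F₀ β) := by
    set gi : Matrix ι ι F := ((g⁻¹ : GL ι F) : Matrix ι ι F) with hgi
    obtain ⟨l, k, hlk, i, j, hR⟩ : ∃ l k, k ≠ l ∧ ∃ i j, (g : Matrix ι ι F) i l * gi k j ∉ F₀ := by
      by_contra hcon
      push Not at hcon
      refine hg (hlow g (hMK hgM) ?_)
      have hν : ∀ k, ∃ j, gi k j ≠ 0 := fun k => by
        by_contra hz
        push Not at hz
        have := inv_mulVec_cancel g (Pi.single k (1 : F))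
        have hk := congrFun this k
        rw [← hgi] at hk
        simp [Matrix.mulVec, dotProduct, hz] at hk
      choose j hj using hν
      refine ⟨gi i₀ (j i₀), hj i₀, fun m l => ?_⟩
      rcases eq_or_ne l i₀ with rfl | hl
      · -- compare with another row
        obtain ⟨m', hm'⟩ : ∃ m', (g : Matrix ι ι F) m' j₀ ≠ 0 := by
          by_contra hz
          push Not at hz
          have h0 : (g : Matrix ι ι F) *ᵥ Pi.single j₀ 1 = 0 := by
            funext m'
            simp [hz]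
          have := mulVec_inj g (h0.trans (mulVec_zero _).symm)
          simpa using congrFun this j₀
        have h1 := hcon j₀ l₀ hjl.symm m' (j l₀)
        have h2 := hcon j₀ l hij m' (j l)
        have h3 := hcon l l₀ hil.symm m (j l₀)
        have h4 := F₀.mul_mem (F₀.div_mem h2 h1) h3
        have e : (g : Matrix ι ι F) m' j₀ * gi l (j l) / ((g : Matrix ι ι F) m' j₀ * gi l₀ (j l₀)) *
            ((g : Matrix ι ι F) m l * gi l₀ (j l₀)) = gi l (j l) * (g : Matrix ι ι F) m l := by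
          field_simp [hj l₀]
        rwa [e] at h4
      · rw [mul_comm]
        exact hcon l i₀ (Ne.symm hl) m _
    set u := (g : Matrix ι ι F) *ᵥ Pi.single l 1 with hu
    have hψ : ∀ β : ι → F₀, β ⬝ᵥ Pi.single l 1 = 0 → RP F₀ M u (ic F₀ β ᵥ* gi) := fun β hβ => by
      have := (hrat _ β hβ).map hgM
      rwa [ic_single] at this
    have hu0 : ∀ m, u m = (g : Matrix ι ι F) m l := fun m => by
      rw [hu, mulVec_single_one]; rfl
    by_cases hdep : ∃ β : ι → F₀, β ≠ 0 ∧ ic F₀ β ⬝ᵥ u = 0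
    · obtain ⟨β, hβ, hβu⟩ := hdep
      refine exists_of_dep hrat h4 (hψ (Pi.single k 1) (by simp [hlk])) hβ hβu ⟨i, j, ?_⟩
      rw [hu0, ic_single, single_one_vecMul]
      exact hR
    push Not at hdep
    have hunz : u ≠ 0 := mulVec_ne_zero g (fun e => by simpa using congrFun e l)
    obtain ⟨k', hk'l, hk'k⟩ : ∃ k', k' ≠ l ∧ k' ≠ k := by
      by_contra hc'
      push Not at hc'
      have : (Finset.univ : Finset ι).card ≤ ({l, k} : Finset ι).card := Finset.card_le_card fun x _ => by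
        by_cases hx : x = l
        · simp [hx]
        · simp [hc' x hx]
      have := this.trans Finset.card_le_two
      rw [Finset.card_univ] at this
      omega
    set ψ₁ := ic F₀ (Pi.single k 1) ᵥ* gi with hψ₁
    set ψ₂ := ic F₀ (Pi.single k' 1) ᵥ* gi with hψ₂
    have hcan : ∀ v : ι → F, (v ᵥ* gi) ᵥ* (g : Matrix ι ι F) = v := fun v => by
      rw [hgi, vecMul_vecMul, ← Units.val_mul, inv_mul_cancel, Units.val_one, vecMul_one]
    have hψ₁0 : ψ₁ ≠ 0 := fun e => by
      have h1 := congrFun (congrArg (fun v => v ᵥ* (g : Matrix ι ι F)) e) k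
      simp only [hψ₁, hcan, zero_vecMul, ic_single, Pi.single_eq_same, Pi.zero_apply] at h1
      exact one_ne_zero h1
    by_cases hrat₁ : ∃ s : F, (∀ m, s * ψ₁ m ∈ F₀) ∧ s ≠ 0
    swap
    · push Not at hrat₁
      have hnr : ∀ s : F, s ≠ 0 → ∃ m, s * ψ₁ m ∉ F₀ := fun s hs0 => by
        by_contra hne
        push Not at hne
        exact hs0 (hrat₁ s hne)
      obtain ⟨b, hb1, hb2⟩ := exists_indep_values hψ₁0 hnr (ψ₂ := ψ₂) fun t e => by
        have h1 := congrFun (congrArg (fun v => v ᵥ* (g : Matrix ι ι F)) e) k'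
        simp only [hψ₁, hψ₂, smul_vecMul, hcan, ic_single, Pi.smul_apply, Pi.single_eq_same, Pi.single_eq_of_ne hk'k,
          smul_zero] at h1
        exact one_ne_zero h1
      have hb0 : b ≠ 0 := fun e => hb1 (by rw [e]; exact dotProduct_zero ψ₁)
      obtain ⟨β, hβb, -, hβ0⟩ := avoid_zero h4 b b
      have hs : ic F₀ β ⬝ᵥ u ≠ 0 := hdep β hβ0
      let G : Subgroup (SpecialLinearGroup (Fin 2) F) :=
        { carrier := {X | ∃ m ∈ M, (m : Matrix ι ι F) *ᵥ u = X 0 0 • u + X 1 0 • ic F₀ b ∧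
            (m : Matrix ι ι F) *ᵥ ic F₀ b = X 0 1 • u + X 1 1 • ic F₀ b ∧
            ∀ x, ∃ α δ : F, (m : Matrix ι ι F) *ᵥ x = x + α • u + δ • ic F₀ b}
          one_mem' := ⟨1, one_mem M, by simp, by simp, fun x => ⟨0, 0, by simp⟩⟩
          mul_mem' := by
            rintro X Y ⟨m, hm, e1, e2, e3⟩ ⟨n, hn, f1, f2, f3⟩
            refine ⟨m * n, mul_mem hm hn, ?_, ?_, fun x => ?_⟩
            · rw [show ((X * Y : SpecialLinearGroup (Fin 2) F) : Matrix (Fin 2) (Fin 2) F) =
                (X : Matrix (Fin 2) (Fin 2) F) * (Y : Matrix (Fin 2) (Fin 2) F) from rfl]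
              simp only [mulVec_mul_GL, f1, mulVec_add, mulVec_smul, e1, e2, Matrix.mul_apply, Fin.sum_univ_two]
              module
            · rw [show ((X * Y : SpecialLinearGroup (Fin 2) F) : Matrix (Fin 2) (Fin 2) F) =
                (X : Matrix (Fin 2) (Fin 2) F) * (Y : Matrix (Fin 2) (Fin 2) F) from rfl]
              simp only [mulVec_mul_GL, f2, mulVec_add, mulVec_smul, e1, e2, Matrix.mul_apply, Fin.sum_univ_two]
              module
            · obtain ⟨α, δ, hα⟩ := f3 x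
              obtain ⟨α', δ', hα'⟩ := e3 x
              refine ⟨α' + α * X 0 0 + δ * X 0 1, δ' + α * X 1 0 + δ * X 1 1, ?_⟩
              simp only [mulVec_mul_GL, hα, mulVec_add, mulVec_smul, e1, e2, hα']
              module
          inv_mem' := by
            rintro X ⟨m, hm, e1, e2, e3⟩
            have hd := X.det_coe
            rw [Matrix.det_fin_two] at hd
            have ei : ((X⁻¹ : SpecialLinearGroup (Fin 2) F) : Matrix (Fin 2) (Fin 2) F) =
                !![X 1 1, -X 0 1; -X 1 0, X 0 0] := by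
              show (X : Matrix (Fin 2) (Fin 2) F).adjugate = _
              exact Matrix.adjugate_fin_two _
            refine ⟨m⁻¹, inv_mem hm, mulVec_inj m ?_, mulVec_inj m ?_, fun x => ?_⟩
            · rw [ei]
              simp [mulVec_inv_cancel, mulVec_add, mulVec_smul, mulVec_neg, e1, e2]
              match_scalars <;> first | ring1 | linear_combination hd | linear_combination -hd
            · rw [ei]
              simp [mulVec_inv_cancel, mulVec_add, mulVec_smul, mulVec_neg, e1, e2]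
              match_scalars <;> first | ring1 | linear_combination hd | linear_combination -hd
            · obtain ⟨α, δ, hα⟩ := e3 (((m⁻¹ : GL ι F) : Matrix ι ι F) *ᵥ x)
              rw [mulVec_inv_cancel] at hα
              refine ⟨-α, -δ, ?_⟩
              conv_rhs => rw [hα]
              module }
      let A : AddSubgroup F :=
        { carrier := {a | Classical.GL2.uniSL a ∈ G}
          zero_mem' := by show _ ∈ G; rw [Classical.GL2.uniSL_zero]; exact one_mem G
          add_mem' := fun {a c} ha hc => by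
            show _ ∈ G; rw [← Classical.GL2.uniSL_mul]; exact mul_mem ha hc
          neg_mem' := fun {a} ha => by
            show _ ∈ G; rw [← Classical.GL2.uniSL_inv]; exact inv_mem ha }
      have hup : ∀ ψ, RP F₀ M u ψ → ψ ⬝ᵥ ic F₀ b ∈ A := fun ψ h => by
        obtain ⟨m, hm, e⟩ := h.2 1
        refine ⟨m, hm, ?_, ?_, fun x => ⟨ψ ⬝ᵥ x, 0, by rw [e, OneMemClass.coe_one, one_mul, zero_smul, add_zero]⟩⟩ <;>
          simp [e, h.1, Classical.GL2.coe_uniSL, OneMemClass.coe_one, add_comm]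
      have p1 := hψ (Pi.single k 1) (by simp [hlk])
      have p2 := hψ (Pi.single k' 1) (by simp [hk'l])
      obtain ⟨m, hm, e⟩ := (hrat b β hβb).2 1
      obtain ⟨⟨X, ⟨n, hn', f1, f2, hn3⟩, hX01, hX00⟩, -⟩ := DicksonSwap.exists_torus G A (fun a ha => ha) (hup _ p1)
        (hup _ p2) hb1
        (fun hmem => by
          obtain ⟨z, hz⟩ := AddSubgroup.mem_zmultiples_iff.1 hmem
          exact hb2 (z : F₀) (by rw [SubringClass.coe_intCast, ← hz, zsmul_eq_mul]))
        hs (⟨m, hm, by simp [e, Classical.GL2.coe_lowSL],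
          by simp [e, Classical.GL2.coe_lowSL, ic_dot, hβb],
          fun x => ⟨0, ic F₀ β ⬝ᵥ x, by rw [e, OneMemClass.coe_one, one_mul, zero_smul, add_zero]⟩⟩ : Classical.GL2.lowSL (ic F₀ β ⬝ᵥ u) ∈ G)
      rw [hX01, zero_smul, zero_add] at f2
      set lam := X 0 0 with hlam
      set μ := X 1 1 with hμ
      have hdet : lam * μ = 1 := by
        have hd := X.det_coe
        rw [Matrix.det_fin_two, hX01, zero_mul, sub_zero] at hd
        exact hd
      have hμ0 : μ ≠ 0 := right_ne_zero_of_mul_eq_one hdet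
      -- the generators move every vector inside the plane
      have hplane : ∀ a : ι → F₀, ∃ α δ : F, (n : Matrix ι ι F) *ᵥ ic F₀ a = ic F₀ a + α • u + δ • ic F₀ b :=
        fun a => hn3 (ic F₀ a)
      -- conjugates of rational transvections centred at `b`
      by_contra hcon
      push Not at hcon
      have hγ : ∀ γ : ι → F₀, γ ⬝ᵥ b = 0 → ∃ γ' : ι → F₀, ∀ x : ι → F,
          μ * (ic F₀ γ ⬝ᵥ x) = ic F₀ γ' ⬝ᵥ ((n : Matrix ι ι F) *ᵥ x) := by
        intro γ hγb
        have p3 := (hrat b γ hγb).map hn'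
        rw [f2] at p3
        have p4 := p3.smul_swap' hμ0
        set φ := μ • (ic F₀ γ ᵥ* ((n⁻¹ : GL ι F) : Matrix ι ι F)) with hφ
        have hall : ∀ mm, φ mm ∈ F₀ := by
          by_contra hne
          push Not at hne
          obtain ⟨mm, hmm⟩ := hne
          obtain ⟨a', β', c, h1, h2, h3, h4, h5'⟩ := exists_of_rat_centre hrat h4 hb0 p4 hmm
          exact hcon a' β' c h1 h2 h3 h4 h5'
        refine ⟨fun mm => ⟨φ mm, hall mm⟩, fun x => ?_⟩
        show _ = φ ⬝ᵥ _
        rw [hφ, smul_dotProduct, ← dotProduct_mulVec, inv_mulVec_cancel, smul_eq_mul]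
      -- a basis of the functionals vanishing at `b`
      obtain ⟨γ₁, g1b, -, g10⟩ := avoid_zero h4 b b
      obtain ⟨γ₂, g2b, g2⟩ := avoid_line h4 b γ₁
      have hlam1 : lam ≠ 1 := fun h => hX00 (by rw [h, one_mul])
      obtain ⟨δ₁, d1⟩ := hγ γ₁ g1b
      obtain ⟨δ₂, d2⟩ := hγ γ₂ g2b
      have hδb : ∀ (γ δ : ι → F₀), γ ⬝ᵥ b = 0 →
          (∀ x : ι → F, μ * (ic F₀ γ ⬝ᵥ x) = ic F₀ δ ⬝ᵥ ((n : Matrix ι ι F) *ᵥ x)) → δ ⬝ᵥ b = 0 := by
        intro γ δ hγb h
        have h1 := h (ic F₀ b)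
        rw [f2, dotProduct_smul, ic_dot, ic_dot, hγb, smul_eq_mul, ZeroMemClass.coe_zero, mul_zero] at h1
        exact Subtype.ext ((mul_eq_zero.1 h1.symm).resolve_left hμ0)
      obtain ⟨p₁, q₁, hd1⟩ := span_perp hn hb0 g10 g2 g1b g2b δ₁ (hδb _ _ g1b d1)
      obtain ⟨p₂, q₂, hd2⟩ := span_perp hn hb0 g10 g2 g1b g2b δ₂ (hδb _ _ g2b d2)
      have hlin : ∀ (x y : F₀) (w : ι → F),
          ic F₀ (x • γ₁ + y • γ₂) ⬝ᵥ w = (x : F) * (ic F₀ γ₁ ⬝ᵥ w) + (y : F) * (ic F₀ γ₂ ⬝ᵥ w) := fun x y w => by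
        rw [show ic F₀ (x • γ₁ + y • γ₂) = (x : F) • ic F₀ γ₁ + (y : F) • ic F₀ γ₂ from rfl, add_dotProduct,
          smul_dotProduct, smul_dotProduct, smul_eq_mul, smul_eq_mul]
      set v₁ := ic F₀ γ₁ ⬝ᵥ u with hv₁
      set v₂ := ic F₀ γ₂ ⬝ᵥ u with hv₂
      have g20 : γ₂ ≠ 0 := by rintro rfl; exact g2 (zero_mem _)
      have v10 : v₁ ≠ 0 := hdep γ₁ g10
      have v20 : v₂ ≠ 0 := hdep γ₂ g20
      -- the values at `u`
      have val : ∀ (γ : ι → F₀) (p q : F₀), (∀ x : ι → F, μ * (ic F₀ γ ⬝ᵥ x) =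
          ic F₀ (p • γ₁ + q • γ₂) ⬝ᵥ ((n : Matrix ι ι F) *ᵥ x)) →
          μ * μ * (ic F₀ γ ⬝ᵥ u) = (p : F) * v₁ + (q : F) * v₂ := by
        intro γ p q h
        have h1 := h u
        rw [f1, hlin, dotProduct_add, dotProduct_add, dotProduct_smul, dotProduct_smul, dotProduct_smul,
          dotProduct_smul, ic_dot, ic_dot, g1b, g2b] at h1
        simp only [ZeroMemClass.coe_zero, smul_eq_mul, mul_zero, add_zero] at h1
        linear_combination μ * h1 + ((p : F) * v₁ + (q : F) * v₂) * hdet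
      rw [hd1] at d1
      rw [hd2] at d2
      have e1 := val γ₁ p₁ q₁ d1
      have e2 := val γ₂ p₂ q₂ d2
      rw [← hv₁] at e1
      rw [← hv₂] at e2
      -- so the multiplier is rational
      have hk : μ * μ ∈ F₀ := by
        refine quad_mem F₀ hr hcard ?_ (μ * μ) (p₁ + q₂) (p₂ * q₁ - p₁ * q₂) ?_
        · let Φ : (ι → F₀) →ₗ[F₀] F :=
            { toFun := fun β => ic F₀ β ⬝ᵥ u
              map_add' := fun x y => by
                rw [show ic F₀ (x + y) = ic F₀ x + ic F₀ y from rfl, add_dotProduct]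
              map_smul' := fun t x => by
                rw [ic_smul, smul_dotProduct]; rfl }
          have hΦ : Function.Injective Φ := (injective_iff_map_eq_zero Φ).2 fun β hβ => by
            by_contra h
            exact hdep β h hβ
          have := LinearMap.finrank_le_finrank_of_injective hΦ
          rw [Module.finrank_fintype_fun_eq_card, hn] at this
          exact this
        · simp only [AddMemClass.coe_add, AddSubgroupClass.coe_sub, MulMemClass.coe_mul]
          refine mul_left_cancel₀ v10 ?_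
          linear_combination (μ * μ - (q₂ : F)) * e1 + (q₁ : F) * e2
      -- hence the transfer is scalar
      have scal : ∀ (γ : ι → F₀) (p q : F₀), μ * μ * (ic F₀ γ ⬝ᵥ u) = (p : F) * v₁ + (q : F) * v₂ →
          p • γ₁ + q • γ₂ = (⟨μ * μ, hk⟩ : F₀) • γ := by
        intro γ p q h
        by_contra hne
        refine hdep _ (sub_ne_zero.2 hne) ?_
        rw [show ic F₀ (p • γ₁ + q • γ₂ - (⟨μ * μ, hk⟩ : F₀) • γ) =
          ic F₀ (p • γ₁ + q • γ₂) - (μ * μ) • ic F₀ γ from rfl, sub_dotProduct, hlin, smul_dotProduct, smul_eq_mul, h, sub_self]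
      rw [scal _ _ _ e1] at d1
      rw [scal _ _ _ e2] at d2
      -- evaluate at a rational vector seen by `γ₁` only
      obtain ⟨a, ha, ha'⟩ := exists_row_of_not_mem (S := Submodule.span F₀ (Set.range ![γ₂])) (v := γ₁) (fun h => by
        rw [Matrix.range_cons, Matrix.range_empty, Set.union_empty, Submodule.mem_span_singleton] at h
        obtain ⟨t, ht⟩ := h
        refine g2 ?_
        rw [Matrix.range_cons, Matrix.range_empty, Set.union_empty, Submodule.mem_span_singleton]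
        exact ⟨t⁻¹, by rw [← ht, inv_smul_smul₀ (fun h0 => g10 (by rw [← ht, h0, zero_smul]))]⟩)
      have ha1 : γ₁ ⬝ᵥ a = 1 := by rw [dotProduct_comm]; exact ha'
      have ha2 : γ₂ ⬝ᵥ a = 0 := by rw [dotProduct_comm]; exact ha _ (Submodule.subset_span ⟨0, rfl⟩)
      obtain ⟨α, δ', hna⟩ := hplane a
      have k1 := d1 (ic F₀ a)
      have k2 := d2 (ic F₀ a)
      simp only [ic_smul, smul_dotProduct, hna, dotProduct_add, dotProduct_smul, ic_dot, ha1, ha2, g1b, g2b,
        smul_eq_mul, ZeroMemClass.coe_zero, OneMemClass.coe_one, mul_zero, mul_one, add_zero, zero_add] at k1 k2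
      have hα : α = 0 := (mul_eq_zero.1 k2.symm).resolve_right (mul_ne_zero (mul_ne_zero hμ0 hμ0) v20)
      rw [hα, zero_mul, add_zero] at k1
      refine hlam1 ?_
      rw [show μ = 1 from mul_left_cancel₀ hμ0 (by linear_combination -k1), mul_one] at hdet
      exact hdet
    · obtain ⟨s, hs, hs0⟩ := hrat₁
      obtain ⟨γ, hγ⟩ : ∃ γ : ι → F₀, ic F₀ γ = s • ψ₁ := ⟨fun m => ⟨s * ψ₁ m, hs m⟩, rfl⟩
      have e : ψ₁ = s⁻¹ • ic F₀ γ := by rw [hγ, inv_smul_smul₀ hs0]
      have p1 := hψ (Pi.single k 1) (by simp [hlk])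
      rw [← hψ₁, e] at p1
      have hγ0 : γ ≠ 0 := fun h => hψ₁0 (by rw [e, h]; funext m; simp [ic])
      obtain ⟨i', hi'⟩ : ∃ i', (s⁻¹ • u) i' ∉ F₀ := by
        by_contra hne
        push Not at hne
        obtain ⟨β, hβ1, -, hβ⟩ := avoid_zero h4 (fun m => (⟨(s⁻¹ • u) m, hne m⟩ : F₀)) (fun m => ⟨(s⁻¹ • u) m, hne m⟩)
        have hβ' : ((β ⬝ᵥ fun m => (⟨(s⁻¹ • u) m, hne m⟩ : F₀) : F₀) : F) = 0 := by rw [hβ1]; rfl
        rw [← ic_dot, show ic F₀ (fun m => (⟨(s⁻¹ • u) m, hne m⟩ : F₀)) = s⁻¹ • u from rfl, dotProduct_smul] at hβ'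
        exact hdep β hβ ((smul_eq_zero.1 hβ').resolve_left (inv_ne_zero hs0))
      exact exists_of_rat_functional hrat h4 hγ0 (p1.smul_swap (inv_ne_zero hs0)) hi'
  -- the coefficients form a field
  refine le_of_root_groups F₀ fun c' a β hβa => ?_
  let Lset : Set F := {k | ∀ a β : ι → F₀, β ⬝ᵥ a = 0 → RP F₀ M (ic F₀ a) (k • ic F₀ β)}
  have hd : ∀ a b : ι → F₀, ∀ k : F, (k • ic F₀ a) ⬝ᵥ ic F₀ b = k * ((a ⬝ᵥ b : F₀) : F) := fun a b k => by
    rw [smul_dotProduct, ic_dot, smul_eq_mul]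
  have stepφ : ∀ (k : F) (a β γ : ι → F₀), a ≠ 0 → RP F₀ M (ic F₀ a) (k • ic F₀ β) → γ ⬝ᵥ a = 0 →
      β ∉ Submodule.span F₀ (Set.range ![γ]) → RP F₀ M (ic F₀ a) (k • ic F₀ γ) := by
    intro k a β γ _ h hγa hβ
    obtain ⟨b, hb, hb'⟩ := exists_row_of_not_mem hβ
    have h1 := h.comm (hrat b γ (by rw [dotProduct_comm]; exact hb _ (Submodule.subset_span ⟨0, rfl⟩)))
      (by rw [ic_dot, hγa]; rfl)
    rwa [hd, dotProduct_comm β b, hb', OneMemClass.coe_one, mul_one] at h1
  have stepu : ∀ (k : F) (a b γ : ι → F₀), RP F₀ M (ic F₀ a) (k • ic F₀ γ) → γ ⬝ᵥ b = 0 →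
      a ∉ Submodule.span F₀ (Set.range ![b]) → RP F₀ M (ic F₀ b) (k • ic F₀ γ) := by
    intro k a b γ h hγb hab
    obtain ⟨δ, hδ, hδ'⟩ := exists_row_of_not_mem hab
    have h1 := (hrat b δ (hδ _ (Submodule.subset_span ⟨0, rfl⟩))).comm h (by rw [hd, hγb]; exact mul_zero k)
    rwa [ic_dot, hδ', OneMemClass.coe_one, one_smul] at h1
  have hcL : c ∈ Lset := by
    intro a β hβa
    rcases eq_or_ne a 0 with rfl | ha
    · refine ⟨by rw [hd, dotProduct_zero, ZeroMemClass.coe_zero, mul_zero], fun t => ⟨1, one_mem M, fun x => ?_⟩⟩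
      rw [show ic F₀ (0 : ι → F₀) = 0 from rfl, smul_zero, add_zero, Units.val_one, one_mulVec]
    rcases eq_or_ne β 0 with rfl | hβ
    · refine ⟨by rw [hd, zero_dotProduct, ZeroMemClass.coe_zero, mul_zero], fun t => ⟨1, one_mem M, fun x => ?_⟩⟩
      rw [show ic F₀ (0 : ι → F₀) = 0 from rfl, smul_zero, zero_dotProduct, mul_zero, zero_smul, add_zero,
        Units.val_one, one_mulVec]
    obtain ⟨γ, hγ1, hγ2, hγ0⟩ := avoid_zero h4 a₀ a
    have stepφ' : ∀ (a' β' γ' : ι → F₀), a' ≠ 0 → β' ≠ 0 → RP F₀ M (ic F₀ a') (c • ic F₀ β') → γ' ⬝ᵥ a' = 0 →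
        RP F₀ M (ic F₀ a') (c • ic F₀ γ') := by
      intro a' β' γ' ha' hβ' h hγ'
      by_cases hsp : β' ∈ Submodule.span F₀ (Set.range ![γ'])
      · rw [Matrix.range_cons, Matrix.range_empty, Set.union_empty, Submodule.mem_span_singleton] at hsp
        obtain ⟨t, rfl⟩ := hsp
        have ht : t ≠ 0 := fun h0 => hβ' (by rw [h0, zero_smul])
        have h' := rp_scale h t⁻¹
        rw [ic_smul, smul_smul, smul_smul, coe_inv_sub F₀, mul_right_comm,
          inv_mul_cancel₀ (fun e => ht (Subtype.ext e)), one_mul] at h'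
        exact h'
      · exact stepφ c a' β' γ' ha' h hγ' hsp
    have h1 := stepφ' a₀ β₀ γ ha₀ hβ₀ p₀ hγ1
    have h2 : RP F₀ M (ic F₀ a) (c • ic F₀ γ) := by
      by_cases hsp : a₀ ∈ Submodule.span F₀ (Set.range ![a])
      · rw [Matrix.range_cons, Matrix.range_empty, Set.union_empty, Submodule.mem_span_singleton] at hsp
        obtain ⟨t, rfl⟩ := hsp
        have ht : t ≠ 0 := fun h0 => ha₀ (by rw [h0, zero_smul])
        have ht' : ((t⁻¹ : F₀) : F) ≠ 0 := fun e => inv_ne_zero ht (Subtype.ext e)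
        have h' := (rp_scale h1 t⁻¹).smul_swap ht'
        rw [← ic_smul, inv_smul_smul₀ ht] at h'
        exact h'
      · exact stepu c a₀ a γ h1 hγ2 hsp
    exact stepφ' a γ β ha hγ0 h2 hβa
  let L : Subalgebra F₀ F :=
    { carrier := Lset
      one_mem' := fun a β h => by rw [one_smul]; exact hrat a β h
      zero_mem' := fun a β h => by
        refine ⟨by rw [zero_smul, zero_dotProduct], fun t => ⟨1, one_mem M, fun x => by
          rw [zero_smul, zero_dotProduct, mul_zero, zero_smul, add_zero, Units.val_one, one_mulVec]⟩⟩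
      add_mem' := fun {k l} hk hl a β h => by
        obtain ⟨h0, h1⟩ := hk a β h
        refine ⟨by rw [hd, h, ZeroMemClass.coe_zero, mul_zero], fun t => ?_⟩
        obtain ⟨m, hm, e⟩ := h1 t
        obtain ⟨m', hm', e'⟩ := (hl a β h).2 t
        refine ⟨m * m', mul_mem hm hm', fun x => ?_⟩
        rw [mulVec_mul_GL, e', e, dotProduct_add, dotProduct_smul, h0]
        simp only [smul_dotProduct, smul_eq_mul, mul_zero, add_zero]
        module
      algebraMap_mem' := fun t a β h => hrat a (t • β) (by rw [smul_dotProduct, h, smul_zero])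
      mul_mem' := fun {k l} hk hl a γ h => by
        rcases eq_or_ne γ 0 with rfl | hγ
        · refine ⟨by rw [hd, zero_dotProduct, ZeroMemClass.coe_zero, mul_zero], fun t => ⟨1, one_mem M, fun x => ?_⟩⟩
          rw [show ic F₀ (0 : ι → F₀) = 0 from rfl, smul_zero, zero_dotProduct, mul_zero, zero_smul, add_zero,
            Units.val_one, one_mulVec]
        rcases eq_or_ne a 0 with rfl | ha
        · refine ⟨by rw [hd, dotProduct_zero, ZeroMemClass.coe_zero, mul_zero], fun t => ⟨1, one_mem M, fun x => ?_⟩⟩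
          rw [show ic F₀ (0 : ι → F₀) = 0 from rfl, smul_zero, add_zero, Units.val_one, one_mulVec]
        obtain ⟨β, hβa, hβ⟩ := avoid_line h4 a γ
        obtain ⟨b, hb, hb'⟩ := exists_row_of_not_mem (S := Submodule.span F₀ (Set.range ![γ])) (v := β)
          hβ
        have h1 := (hk a β hβa).comm (hl b γ (by rw [dotProduct_comm]; exact hb _ (Submodule.subset_span ⟨0, rfl⟩)))
          (by rw [hd, h, ZeroMemClass.coe_zero, mul_zero])
        rwa [hd, dotProduct_comm β b, hb', OneMemClass.coe_one, mul_one, smul_smul] at h1 }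
  have hL : L = ⊤ := by
    have hpr : (Module.finrank F₀ F).Prime := by
      have := Module.card_eq_pow_finrank (K := F₀) (V := F)
      rw [hcard, Nat.card_eq_fintype_card] at this
      rw [← Nat.pow_right_injective Fintype.one_lt_card this]; exact hr
    haveI := Subalgebra.isSimpleOrder_of_finrank_prime F₀ F hpr
    refine (IsSimpleOrder.eq_bot_or_eq_top L).resolve_left fun hb => hc ?_
    have : c ∈ L := hcL
    rw [hb, Algebra.mem_bot] at this
    obtain ⟨t, rfl⟩ := this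
    exact t.2
  exact (show c' ∈ L by rw [hL]; trivial) a β hβa

theorem subfield_group_maximal {F : Type*} [Field F] [Fintype F] (n : ℕ) (hn : n = 3) (F₀ : Subfield F) (r : ℕ) (hr : r.Prime) (hcard : Fintype.card F = Nat.card F₀ ^ r) (P : Matrix.GeneralLinearGroup (Fin n) F) : Cfsg.Geo.IsMaximalIn (Cfsg.Geo.specialLinear (Fin n) F) (Cfsg.Geo.subfieldSubgroup F₀ P ⊓ Cfsg.Geo.specialLinear (Fin n) F) := by
  classical
  set e := MulAut.conj P with he
  set B := ((Matrix.GeneralLinearGroup.map (F₀.subtype : F₀ →+* F)).range ⊔ Cfsg.Geo.scalars (Fin n) F) with hB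
  have hK : (Cfsg.Geo.specialLinear (Fin n) F).map e.toMonoidHom = Cfsg.Geo.specialLinear (Fin n) F :=
    by
    have hn : (Cfsg.Geo.specialLinear (Fin n) F).Normal := MonoidHom.normal_ker _
    ext g
    constructor
    · rintro ⟨x, hx, rfl⟩
      exact hn.conj_mem x hx P
    · intro hg
      exact ⟨P⁻¹ * g * P⁻¹⁻¹, hn.conj_mem g hg P⁻¹, by simp [he, mul_assoc]⟩
  have key := subfield_maximal_three (ι := Fin n) (F := F) (by rw [Fintype.card_fin, hn]) F₀ hr hcard
    (B ⊓ Cfsg.Geo.specialLinear (Fin n) F) inf_le_right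
    (fun g hg ⟨k, hk, hkg⟩ => by
      refine ⟨?_, hg⟩
      let A₀ : Matrix (Fin n) (Fin n) F₀ := fun i j => ⟨k * (g : Matrix (Fin n) (Fin n) F) i j, hkg i j⟩
      have hA : A₀.map F₀.subtype = k • (g : Matrix (Fin n) (Fin n) F) := rfl
      have hdet : A₀.det ≠ 0 := fun h => by
        have h' : (F₀.subtype : F₀ →+* F) A₀.det = 0 := by rw [h]; rfl
        rw [RingHom.map_det, RingHom.mapMatrix_apply, hA, Matrix.det_smul] at h'
        rcases mul_eq_zero.1 h' with h0 | h0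
        · exact hk (eq_zero_of_pow_eq_zero h0)
        · exact (g.isUnit.map Matrix.detMonoidHom).ne_zero h0
      let r₀ : Matrix.GeneralLinearGroup (Fin n) F₀ := Matrix.GeneralLinearGroup.mkOfDetNeZero A₀ hdet
      have hs : (Units.map (Matrix.scalar (Fin n) : F →+* Matrix (Fin n) (Fin n) F).toMonoidHom (Units.mk0 k⁻¹ (inv_ne_zero hk))) ∈ Cfsg.Geo.scalars (Fin n) F := ⟨_, rfl⟩
      have hg' : g = (Matrix.GeneralLinearGroup.map (F₀.subtype : F₀ →+* F) r₀) * (Units.map (Matrix.scalar (Fin n) : F →+* Matrix (Fin n) (Fin n) F).toMonoidHom (Units.mk0 k⁻¹ (inv_ne_zero hk))) := by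
        refine Units.ext ?_
        show (g : Matrix (Fin n) (Fin n) F) = A₀.map F₀.subtype * Matrix.scalar (Fin n) k⁻¹
        rw [hA]
        simp [Matrix.mul_diagonal, ← Matrix.ext_iff, hk, mul_assoc, mul_comm k]
      rw [hg']
      exact mul_mem (Subgroup.mem_sup_left ⟨r₀, rfl⟩) (Subgroup.mem_sup_right hs))
    (fun g hg => by
      obtain ⟨x, ⟨r₀, rfl⟩, s, hs, rfl⟩ := Subgroup.mem_sup_of_normal_right.1 hg.1
      obtain ⟨c, hc⟩ := (Cfsg.Geo.mem_scalars_iff _).1 hs
      refine ⟨(c : F)⁻¹, inv_ne_zero c.ne_zero, fun i j => ?_⟩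
      rw [Units.val_mul, hc, Matrix.mul_smul, Matrix.mul_one, Matrix.smul_apply, smul_eq_mul, inv_mul_cancel_left₀ c.ne_zero]
      exact ((r₀ : Matrix (Fin n) (Fin n) F₀) i j).2)
  have hmax := Forms.Max.SubfieldLinear.isMaximalIn_map e key
  rwa [Subgroup.map_inf _ _ _ e.injective, hK] at hmax


/-- the subfield conjunct of the list of geometric maximal subgroups of `SL(3, q)` -/
theorem maximal {F : Type*} [Field F] [Fintype F] : ∀ (F₀ : Subfield F) (r : ℕ) (P : Matrix.GeneralLinearGroup (Fin 3) F), r.Prime → Fintype.card F = Nat.card F₀ ^ r → Cfsg.Geo.IsMaximalIn (Cfsg.Geo.specialLinear (Fin 3) F) (Cfsg.Geo.subfieldSubgroup F₀ P ⊓ Cfsg.Geo.specialLinear (Fin 3) F) :=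
  fun F₀ r P hr hcard => subfield_group_maximal 3 rfl F₀ r hr hcard P

end Cfsg.Agent.Forms.Max.SL3.Subfield
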