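import Mathlib
import Cfsg.Agent.Lib.Forms.Max.SL4.Unitary

/-!
# Unitary similarity groups in the special linear group of dimension three

A root pair with anisotropic centre `u` and axis through an isotropic `v`, moved by the
unipotent isometries fixing `v`, gives the whole root group of `v`; conjugating with it gives
all axes through `u`.
-/

set_option autoImplicit false
set_option linter.unusedSectionVars false

namespace Cfsg.Agent.Forms.Max.SL3.Unitary

open Matrix Cfsg.Agent.Aschbacher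
open Cfsg.Agent.Forms.Max.UnitaryInLinear

variable {ι : Type} [Fintype ι] [DecidableEq ι] {F : Type*} [Field F] [Finite F]
variable {σ : F →+* F} {h : (ι → F) → (ι → F) → F}

theorem zero_left (hh : Herm σ h) (x : ι → F) : h 0 x = 0 := by simpa using hh.smul 0 0 x

/-- orthogonal to two orthogonal vectors, the second anisotropic, every norm occurs -/
theorem exists_norm_perp_two (hh : Herm σ h) (h3 : Fintype.card ι = 3) {u v : ι → F}
    (hu : u = 0 ∨ h u u ≠ 0) (hvu : h v u = 0) (hvv : h v v ≠ 0) {d : F} (hd : σ d = d) :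
    ∃ y, h y u = 0 ∧ h y v = 0 ∧ h y y = d := by
  rcases hu with rfl | hu
  · obtain ⟨y, hy, hyy⟩ := exists_norm_perp hh ![v] (Or.inl (by omega)) hd
    exact ⟨y, zero_right hh y, hy 0, hyy⟩
  let L : (ι → F) →ₗ[F] (Fin 2 → F) := LinearMap.pi fun i => form hh (![u, v] i)
  obtain ⟨z, hz, hz0⟩ : ∃ z ∈ LinearMap.ker L, z ≠ 0 := by
    have h1 := LinearMap.finrank_range_add_finrank_ker L
    have h2 := Submodule.finrank_le (LinearMap.range L)
    rw [Module.finrank_fintype_fun_eq_card] at h1 h2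
    rw [Fintype.card_fin] at h2
    exact Submodule.exists_mem_ne_zero_of_ne_bot (fun e => by rw [e, finrank_bot] at h1; omega)
  have hzu : h z u = 0 := congrFun hz 0
  have hzv : h z v = 0 := congrFun hz 1
  have huv := comm_zero hh hvu
  have hzz : h z z ≠ 0 := by
    intro hzz
    have hli : LinearIndependent F ![u, v, z] := by
      refine Fintype.linearIndependent_iff.2 fun c hc => ?_
      simp only [Fin.sum_univ_three, Matrix.cons_val_zero, Matrix.cons_val_one,
        Matrix.cons_val_two, Matrix.tail_cons, Matrix.head_cons] at hc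
      have h0 : c 0 = 0 := by
        have := congrArg (fun y => h y u) hc
        simp only [hh.add, hh.smul, hvu, hzu, mul_zero, add_zero, zero_left hh] at this
        exact (mul_eq_zero.1 this).resolve_right hu
      have h1 : c 1 = 0 := by
        have := congrArg (fun y => h y v) hc
        simp only [hh.add, hh.smul, huv, hzv, mul_zero, add_zero, zero_add, zero_left hh] at this
        exact (mul_eq_zero.1 this).resolve_right hvv
      rw [h0, h1, zero_smul, zero_smul, zero_add, zero_add, smul_eq_zero] at hc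
      intro i
      fin_cases i
      exacts [h0, h1, hc.resolve_right hz0]
    have hsp := hli.span_eq_top_of_card_eq_finrank
      (by rw [Module.finrank_fintype_fun_eq_card, h3, Fintype.card_fin])
    refine hz0 (right_ext hh fun x => ?_)
    rw [zero_right hh]
    have hle : Submodule.span F (Set.range ![u, v, z]) ≤ LinearMap.ker (form hh z) := by
      rw [Submodule.span_le]
      rintro _ ⟨i, rfl⟩
      fin_cases i
      exacts [comm_zero hh hzu, comm_zero hh hzv, hzz]
    exact hle (hsp ▸ Submodule.mem_top)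
  obtain ⟨c, hc⟩ := Bases.exists_norm_eq σ hh.ne_id hh.inv (d / h z z)
    (by rw [map_div₀, hd, self_fixed hh])
  refine ⟨c • z, by rw [hh.smul, hzu, mul_zero], by rw [hh.smul, hzv, mul_zero], ?_⟩
  rw [hh.smul, UnitaryInLinear.smul_right hh, ← mul_assoc, mul_comm c, hc, div_mul_cancel₀ _ hzz]

/-- orthogonal to `0` or an anisotropic `u`: an isotropic vector with product one with `v` -/
theorem exists_iso_value3 (hh : Herm σ h) (h3 : Fintype.card ι = 3) {u v : ι → F}
    (hu : u = 0 ∨ h u u ≠ 0) (hv : v ∉ Submodule.span F {u}) :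
    ∃ e, h e u = 0 ∧ h e v = 1 ∧ h e e = 0 := by
  obtain ⟨x, hxu, hxv⟩ := exists_perp_value hh hv
  obtain ⟨l, hl⟩ : ∃ l, l = h v u / h u u := ⟨_, rfl⟩
  obtain ⟨v', hv'⟩ : ∃ v', v' = v - l • u := ⟨_, rfl⟩
  have hv'u : h v' u = 0 := by
    rcases hu with rfl | hu
    · exact zero_right hh _
    · rw [hv', sub_left hh, hh.smul, hl, div_mul_cancel₀ _ hu, sub_self]
  have hsame : ∀ e, h e u = 0 → h e v' = h e v := fun e he => by
    rw [hv', sub_eq_add_neg, UnitaryInLinear.add_right hh, neg_right hh,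
      UnitaryInLinear.smul_right hh, he, mul_zero, neg_zero, add_zero]
  by_cases hN : h v' v' = 0
  · obtain ⟨a, ha⟩ := exists_trace_eq hh (self_fixed hh x)
    have hxv' : h x v' = 1 := (hsame x hxu).trans hxv
    have hvx : h v' x = 1 := by rw [hh.herm, hxv', map_one]
    have heu : h (x + a • v') u = 0 := by rw [hh.add, hh.smul, hxu, hv'u, mul_zero, add_zero]
    refine ⟨x + a • v', heu, ?_, ?_⟩
    · rw [← hsame _ heu, hh.add, hh.smul, hxv', hN, mul_zero, add_zero]
    · simp only [hh.add, UnitaryInLinear.add_right hh, hh.smul, UnitaryInLinear.smul_right hh,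
        hxv', hvx, hN]
      linear_combination ha
  · obtain ⟨y, hyu, hyv, hyy⟩ := exists_norm_perp_two hh h3 hu hv'u hN
      (d := -(h v' v')⁻¹) (by rw [map_neg, map_inv₀, self_fixed hh])
    have heu : h ((h v' v')⁻¹ • v' + y) u = 0 := by
      rw [hh.add, hh.smul, hv'u, hyu, mul_zero, add_zero]
    refine ⟨_, heu, ?_, ?_⟩
    · rw [← hsame _ heu, hh.add, hh.smul, hyv, inv_mul_cancel₀ hN, add_zero]
    · simp only [hh.add, UnitaryInLinear.add_right hh, hh.smul, UnitaryInLinear.smul_right hh,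
        hyv, comm_zero hh hyv, hyy, map_inv₀, self_fixed hh]
      field_simp
      ring

theorem exists_isotropic3 (hh : Herm σ h) (h3 : Fintype.card ι = 3) :
    ∃ v : ι → F, v ≠ 0 ∧ h v v = 0 := by
  obtain ⟨z, -, hz⟩ := exists_norm_perp hh (fun _ : Fin 1 => 0) (Or.inl (by omega)) (d := 1) (map_one σ)
  have hz0 : z ≠ 0 := fun e => by rw [e, zero_right hh] at hz; exact one_ne_zero hz.symm
  obtain ⟨e, -, hez, hee⟩ := exists_iso_value3 hh h3 (u := 0) (Or.inl rfl) (v := z) (by simpa using hz0)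
  exact ⟨e, fun e0 => one_ne_zero (by rw [← hez, e0, zero_left hh]), hee⟩

variable {M : Subgroup (GL ι F)}

theorem pair_add (hh : Herm σ h) {u w w' : ι → F} (p : Pair h M u w) (p' : Pair h M u w') :
    Pair h M u (w + w') := by
  obtain ⟨h1, g, hg, eg⟩ := p
  obtain ⟨h2, k, hk, ek⟩ := p'
  refine ⟨by rw [UnitaryInLinear.add_right hh, h1, h2, add_zero], g * k, mul_mem hg hk, fun x => ?_⟩
  rw [mulVec_mul_GL, ek, eg, UnitaryInLinear.add_right hh, hh.add, hh.smul, h1, mul_zero, add_zero,
    add_smul]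
  abel

theorem pair_neg (hh : Herm σ h) {u w : ι → F} (p : Pair h M u w) : Pair h M u (-w) := by
  obtain ⟨h1, g, hg, eg⟩ := p
  refine ⟨by rw [neg_right hh, h1, neg_zero], g⁻¹, inv_mem hg, fun x => ?_⟩
  have e : (g : Matrix ι ι F) *ᵥ (x + h x (-w) • u) = x := by
    rw [eg, hh.add, hh.smul, h1, mul_zero, add_zero, neg_right hh, neg_smul, neg_add_cancel_right]
  rw [← e, inv_mulVec_cancel, e]

theorem pair_smul (hh : Herm σ h) {u w : ι → F} {c : F} (hc : c ≠ 0) (p : Pair h M (c • u) w) :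
    Pair h M u (σ c • w) := by
  obtain ⟨h1, g, hg, eg⟩ := p
  rw [hh.smul, mul_eq_zero] at h1
  refine ⟨by rw [UnitaryInLinear.smul_right hh, h1.resolve_left hc, mul_zero], g, hg, fun x => ?_⟩
  rw [eg, UnitaryInLinear.smul_right hh, hh.inv, smul_smul, mul_comm]

theorem pair_sub_left (hh : Herm σ h) {u u' w : ι → F} (p : Pair h M u w) (p' : Pair h M u' w) :
    Pair h M (u - u') w := by
  obtain ⟨h1, g, hg, eg⟩ := p
  obtain ⟨h2, k, hk, ek⟩ := pair_neg hh p'
  rw [neg_right hh, neg_eq_zero] at h2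
  refine ⟨by rw [sub_left hh, h1, h2, sub_zero], g * k, mul_mem hg hk, fun x => ?_⟩
  rw [mulVec_mul_GL, ek, eg, neg_right hh, hh.add, hh.smul, h2, mul_zero, add_zero, smul_sub, neg_smul]
  abel

/-- commutator with a transvection of centre and axis `f` -/
theorem pair_step (hh : Herm σ h) {u w f : ι → F} {t : F} (p : Pair h M u w)
    (pf : Pair h M f (t • f)) (huf : h u f = 0) : Pair h M u (-((h w f * t) • f)) := by
  obtain ⟨hff, k, hk, ek⟩ := pf
  obtain ⟨h1, g, hg, eg⟩ := p
  have hku : (k : Matrix ι ι F) *ᵥ u = u := by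
    rw [ek, UnitaryInLinear.smul_right hh, huf, mul_zero, zero_smul, add_zero]
  have hinv : ∀ x, ((k⁻¹ : GL ι F) : Matrix ι ι F) *ᵥ x = x - h x (t • f) • f := fun x => by
    have e : (k : Matrix ι ι F) *ᵥ (x - h x (t • f) • f) = x := by
      rw [ek, sub_left hh, hh.smul, hff, mul_zero, sub_zero, sub_add_cancel]
    have := inv_mulVec_cancel k (x - h x (t • f) • f)
    rwa [e] at this
  have q : Pair h M u (w + -((h w f * t) • f)) := by
    refine ⟨by rw [UnitaryInLinear.add_right hh, neg_right hh, UnitaryInLinear.smul_right hh,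
      h1, huf, mul_zero, neg_zero, add_zero], k * g * k⁻¹, mul_mem (mul_mem hk hg) (inv_mem hk),
      fun x => ?_⟩
    rw [mulVec_mul_GL, mulVec_mul_GL, eg, mulVec_add, mulVec_smul, mulVec_inv_cancel, hku, hinv,
      sub_left hh, hh.smul, UnitaryInLinear.add_right hh, neg_right hh,
      UnitaryInLinear.smul_right hh, UnitaryInLinear.smul_right hh, map_mul, ← hh.herm f w]
    congr 2
    ring
  have := pair_add hh (pair_neg hh ⟨h1, g, hg, eg⟩) q
  rwa [← add_assoc, neg_add_cancel, zero_add] at this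

/-- the isometries fixing an isotropic vector give its whole root group -/
theorem full_root (hh : Herm σ h)
    (hSU : ∀ k ∈ Cfsg.Geo.specialLinear ι F,
      (∀ x y, h ((k : Matrix ι ι F) *ᵥ x) ((k : Matrix ι ι F) *ᵥ y) = h x y) → k ∈ M)
    {u v : ι → F} {d : F} (huu : h u u ≠ 0) (huv : h u v = 0) (hvv : h v v = 0) (hd : d ≠ 0)
    (p : Pair h M u (d • v)) (c : F) : Pair h M v (c • v) := by
  by_cases hc : c = 0
  · subst hc
    exact ⟨by rw [zero_smul, zero_right hh], 1, one_mem M, fun x => by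
      simp [zero_right hh]⟩
  obtain ⟨N, hN⟩ : ∃ N, N = h u u := ⟨_, rfl⟩
  have hN0 : N ≠ 0 := hN ▸ huu
  have hNf : σ N = N := hN ▸ self_fixed hh u
  obtain ⟨s, hs⟩ : ∃ s, s = σ (c / d) := ⟨_, rfl⟩
  have hs0 : s ≠ 0 := by
    rw [hs]; simpa using div_ne_zero hc hd
  obtain ⟨b, hb⟩ : ∃ b, b = s / N := ⟨_, rfl⟩
  obtain ⟨e, he⟩ := exists_trace_eq hh (d := N * (b * σ b))
    (by rw [map_mul, map_mul, hh.inv, hNf, mul_comm (σ b)])
  have hvu := comm_zero hh huv
  obtain ⟨φ₁, hφ₁⟩ := exists_row (form hh ((-b) • v))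
  obtain ⟨φ₂, hφ₂⟩ := exists_row (form hh (σ b • u + σ (e + σ b * b * N) • v))
  have h1 : φ₁ ⬝ᵥ u = 0 := by
    rw [hφ₁]
    change h u ((-b) • v) = 0
    rw [UnitaryInLinear.smul_right hh, huv, mul_zero]
  have h2 : φ₂ ⬝ᵥ v = 0 := by
    rw [hφ₂]
    simp [form, UnitaryInLinear.add_right hh, UnitaryInLinear.smul_right hh, hvu, hvv]
  set k := trv v φ₂ h2 * trv u φ₁ h1 with hkdef
  have happ : ∀ x, (k : Matrix ι ι F) *ᵥ x =
      x + (-σ b * h x v) • u + (b * h x u + e * h x v) • v := fun x => by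
    rw [hkdef, mulVec_mul_GL, trv_mulVec, trv_mulVec, hφ₁, hφ₂]
    simp only [form, LinearMap.coe_mk, AddHom.coe_mk, UnitaryInLinear.add_right hh,
      UnitaryInLinear.smul_right hh, hh.add, hh.smul, hh.inv, map_neg, huv, hN]
    congr 2
    ring
  have hk : k ∈ M := by
    refine hSU k (mul_mem (trv_mem_SL _ _ _) (trv_mem_SL _ _ _)) fun x y => ?_
    rw [happ, happ]
    simp only [hh.add, UnitaryInLinear.add_right hh, hh.smul, UnitaryInLinear.smul_right hh,
      map_add, map_mul, map_neg, hh.inv, huv, hvu, hvv, ← hh.herm v y, ← hh.herm u y, ← hN]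
    linear_combination (h x v * h v y) * he
  obtain ⟨-, g, hg, eg⟩ := id p
  have hkv : (k : Matrix ι ι F) *ᵥ v = v := by
    rw [happ, hvv, hvu]; simp
  have hkinv : ∀ x, h (((k⁻¹ : GL ι F) : Matrix ι ι F) *ᵥ x) v = h x v := fun x => by
    obtain ⟨y, rfl⟩ : ∃ y, (k : Matrix ι ι F) *ᵥ y = x := ⟨_, mulVec_inv_cancel k x⟩
    rw [inv_mulVec_cancel, happ]
    simp only [hh.add, hh.smul, huv, hvv, mul_zero, add_zero]
  have q : Pair h M (u + s • v) (d • v) := by
    refine ⟨by simp [hh.add, hh.smul, UnitaryInLinear.smul_right hh, huv, hvv],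
      k * g * k⁻¹, mul_mem (mul_mem hk hg) (inv_mem hk), fun x => ?_⟩
    rw [mulVec_mul_GL, mulVec_mul_GL, eg, mulVec_add, mulVec_smul, mulVec_inv_cancel,
      UnitaryInLinear.smul_right hh, UnitaryInLinear.smul_right hh, hkinv, happ u, huv, hb, ← hN,
      mul_zero, mul_zero, zero_smul, add_zero, add_zero, div_mul_cancel₀ _ hN0]
  have := pair_smul hh hs0 (add_sub_cancel_left u (s • v) ▸ pair_sub_left hh q p)
  rwa [smul_smul, hs, hh.inv, div_mul_cancel₀ _ hd] at this

theorem similarity_maximal3 (hh : Herm σ h) (h3 : Fintype.card ι = 3)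
    (H : Subgroup (GL ι F)) (hH : H ≤ Cfsg.Geo.specialLinear ι F)
    (hmem : ∀ g : GL ι F, g ∈ H ↔ g ∈ Cfsg.Geo.specialLinear ι F ∧
      ∃ c : Fˣ, ∀ u v, h ((g : Matrix ι ι F) *ᵥ u) ((g : Matrix ι ι F) *ᵥ v) = (c : F) * h u v) :
    Cfsg.Geo.IsMaximalIn (Cfsg.Geo.specialLinear ι F) H := by
  classical
  have hrow : ∀ w : ι → F, ∃ φ : ι → F, ∀ x, φ ⬝ᵥ x = h x w := fun w => exists_row (form hh w)
  -- transvections
  have htv : ∀ (v : ι → F) (c : F), h v v = 0 → ∃ g ∈ Cfsg.Geo.specialLinear ι F,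
      (∀ x, (g : Matrix ι ι F) *ᵥ x = x + (c * h x v) • v) ∧
      ∀ x y, h ((g : Matrix ι ι F) *ᵥ x) ((g : Matrix ι ι F) *ᵥ y) =
        h x y + (c + σ c) * (h x v * h v y) := by
    intro v c hv
    obtain ⟨φ, hφ⟩ := hrow (σ c • v)
    have h0 : φ ⬝ᵥ v = 0 := by rw [hφ, UnitaryInLinear.smul_right hh, hv, mul_zero]
    have happ : ∀ x, (trv v φ h0 : Matrix ι ι F) *ᵥ x = x + (c * h x v) • v := fun x => by
      rw [trv_mulVec, hφ, UnitaryInLinear.smul_right hh, hh.inv]
    refine ⟨trv v φ h0, trv_mem_SL _ _ _, happ, fun x y => ?_⟩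
    rw [happ, happ]
    simp only [hh.add, UnitaryInLinear.add_right hh, hh.smul, UnitaryInLinear.smul_right hh, hv, map_mul, ← hh.herm v y]
    ring
  obtain ⟨e₁, he₁⟩ := exists_trace hh
  obtain ⟨τ, hτ0, hτ⟩ := exists_skew hh
  refine isMaximalIn_of hH (fun hle => ?_) fun M hM hMK g hgM hg => ?_
  · -- a transvection that is no similarity
    obtain ⟨v, hv0, hvv⟩ := exists_isotropic3 hh h3
    obtain ⟨x, hxv⟩ := exists_value_one hh hv0
    obtain ⟨z, hz, hzz⟩ := exists_norm_perp hh ![v] (Or.inl (by omega)) (d := 1) (map_one σ)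
    obtain ⟨k, hk, -, hform⟩ := htv v e₁ hvv
    obtain ⟨-, c, hc⟩ := (hmem _).1 (hle hk)
    have h1 := hc z z
    rw [hform, show h z v = 0 from hz 0, zero_mul, mul_zero, add_zero, hzz, mul_one] at h1
    have h2 := hc x x
    rw [hform, ← h1, one_mul, hxv, hh.herm v x, hxv, map_one, mul_one, mul_one, add_eq_left] at h2
    exact he₁ h2
  -- unitary transvections lie in `M`
  have htH : ∀ (v : ι → F) (c : F), h v v = 0 → σ c = -c →
      ∃ g ∈ M, (∀ x, (g : Matrix ι ι F) *ᵥ x = x + (c * h x v) • v) ∧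
        ∀ x y, h ((g : Matrix ι ι F) *ᵥ x) ((g : Matrix ι ι F) *ᵥ y) = h x y := by
    intro v c hv hc
    obtain ⟨k, hk, happ, hform⟩ := htv v c hv
    refine ⟨k, hM ((hmem _).2 ⟨hk, 1, fun x y => ?_⟩), happ, fun x y => ?_⟩
    · rw [hform, hc, add_neg_cancel, zero_mul, add_zero, Units.val_one, one_mul]
    · rw [hform, hc, add_neg_cancel, zero_mul, add_zero]
  have hvv : ∀ v, h v v = 0 → RP σ h M v v := fun v hv => ⟨hv, fun a ha => by
    obtain ⟨k, hk, happ, -⟩ := htH v (σ a) hv (by rw [hh.inv, ha, neg_neg])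
    exact ⟨by rw [UnitaryInLinear.smul_right hh, hv, mul_zero], k, hk, fun x => by rw [happ, UnitaryInLinear.smul_right hh]⟩⟩
  -- an independent root pair
  obtain ⟨u₁, w₁, hu₁, p₁, hw₁⟩ : ∃ u w, u ≠ 0 ∧ RP σ h M u w ∧ w ∉ Submodule.span F {u} := by
    by_contra hcon
    push Not at hcon
    -- no full root pair
    have hfull : ∀ u, u ≠ 0 → h u u = 0 → ∀ l : F, RP σ h M u (l • u) → σ l = l := by
      intro u hu huu l pl
      by_contra hl
      have hl' : l - σ l ≠ 0 := sub_ne_zero.2 (Ne.symm hl)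
      have pall : ∀ c : F, RP σ h M u (c • u) := fun c => by
        set s := (c - σ c) / (l - σ l) with hs
        have hs' : σ s = s := by
          rw [hs, map_div₀, map_sub, map_sub, hh.inv, hh.inv, ← neg_sub c, ← neg_sub l, neg_div_neg_eq]
        have hsl : s * (l - σ l) = c - σ c := div_mul_cancel₀ _ hl'
        have hr : σ (c - s * l) = c - s * l := by
          rw [map_sub, map_mul, hs']
          linear_combination hsl
        have := ((hvv u huu).smul_fixed hh hr).add_right hh (pl.smul_fixed hh hs')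
        rwa [smul_smul, ← add_smul, sub_add_cancel] at this
      obtain ⟨v, -, hvu, hv⟩ := exists_iso_value3 hh h3 (u := 0) (Or.inl rfl) (v := u) (by simpa using hu)
      have huv : h u v = 1 := by rw [hh.herm, hvu, map_one]
      obtain ⟨-, k, hk, happ⟩ := (pall (τ⁻¹ * σ e₁)).2 τ hτ
      simp only [smul_smul, ← mul_assoc, mul_inv_cancel₀ hτ0, one_mul, UnitaryInLinear.smul_right hh, hh.inv] at happ
      have hw : ∀ x, h x (v - σ e₁ • u) = h (((k⁻¹ : GL ι F) : Matrix ι ι F) *ᵥ x) v := fun x => by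
        set y := ((k⁻¹ : GL ι F) : Matrix ι ι F) *ᵥ x with hy
        have hx : x = y + (e₁ * h y u) • u := by rw [← happ, hy, mulVec_inv_cancel]
        rw [hx, sub_eq_add_neg, UnitaryInLinear.add_right hh, neg_right hh, UnitaryInLinear.smul_right hh, hh.inv]
        simp only [hh.add, hh.smul, huv, huu]
        ring
      have hkv : (k : Matrix ι ι F) *ᵥ v = v + e₁ • u := by rw [happ, hvu, mul_one]
      have hne : v + e₁ • u ≠ 0 := fun e => by
        have := congrArg (fun y => h y u) e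
        simp only [hh.add, hh.smul, hvu, huu, mul_zero, add_zero] at this
        have h00 := hh.smul 0 0 u
        rw [zero_smul, zero_mul] at h00
        rw [h00] at this
        exact one_ne_zero this
      obtain ⟨t, ht⟩ := Submodule.mem_span_singleton.1
        (hcon _ _ hne (hkv ▸ (hvv v hv).map hh hk hw))
      have ht1 := congrArg (fun y => h y u) ht
      simp only [hh.add, hh.smul, sub_left hh, hvu, huu, mul_zero, add_zero, sub_zero, mul_one] at ht1
      have ht2 := congrArg (fun y => h y v) ht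
      simp only [hh.add, hh.smul, sub_left hh, huv, hv, mul_one, zero_add, zero_sub, ht1, one_mul] at ht2
      exact he₁ (eq_neg_iff_add_eq_zero.1 ht2)
    -- `g` is a similarity
    refine hg ((hmem g).2 ⟨hMK hgM, ?_⟩)
    obtain ⟨G, hG⟩ : ∃ G : (ι → F) →ₗ[F] (ι → F), ∀ x, G x = (g : Matrix ι ι F) *ᵥ x :=
      ⟨Matrix.toLin' (g : Matrix ι ι F), fun x => Matrix.toLin'_apply _ x⟩
    have hadj : ∀ v, ∃ a, ∀ x, h x a = h (G x) (G v) := fun v =>
      exists_repr hh ((form hh (G v)).comp G)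
    choose A hA using hadj
    have hsa : ∀ x y, h x (A y) = h (A x) y := fun x y => by
      rw [hA, hh.herm (A x) y, hA, ← hh.herm]
    have hAadd : ∀ a b, A (a + b) = A a + A b := fun a b => right_ext hh fun x => by
      rw [UnitaryInLinear.add_right hh, hA, hA, hA, map_add, UnitaryInLinear.add_right hh]
    have hAsmul : ∀ (c : F) a, A (c • a) = c • A a := fun c a => right_ext hh fun x => by
      rw [UnitaryInLinear.smul_right hh, hA, hA, map_smul, UnitaryInLinear.smul_right hh]
    have heig : ∀ v, h v v = 0 → v ≠ 0 → ∃ r : F, r ≠ 0 ∧ σ r = r ∧ A v = r • v := by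
      intro v hv hv0
      obtain ⟨w', hw'⟩ := exists_repr hh ((form hh v).comp
        (Matrix.toLin' ((g⁻¹ : GL ι F) : Matrix ι ι F)))
      have hw'' : ∀ x, h x w' = h (((g⁻¹ : GL ι F) : Matrix ι ι F) *ᵥ x) v := fun x => by
        rw [hw']; simp [Matrix.toLin'_apply, form]
      have hgv := mulVec_ne_zero g hv0
      have pw := (hvv v hv).map hh hgM hw''
      obtain ⟨t, ht⟩ := Submodule.mem_span_singleton.1 (hcon _ _ hgv pw)
      have ht0 : t ≠ 0 := fun h0 => hv0 (right_ext hh fun x => by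
        have := hw'' ((g : Matrix ι ι F) *ᵥ x)
        rw [← ht, h0, zero_smul, zero_right hh, inv_mulVec_cancel] at this
        rw [zero_right hh]
        exact this.symm)
      have hgvv : h ((g : Matrix ι ι F) *ᵥ v) ((g : Matrix ι ι F) *ᵥ v) = 0 := by
        have := pw.1
        rw [← ht, UnitaryInLinear.smul_right hh] at this
        exact (mul_eq_zero.1 this).resolve_left (by simpa using ht0)
      have htf : σ t = t := hfull _ hgv hgvv t (ht.symm ▸ pw)
      refine ⟨t⁻¹, inv_ne_zero ht0, by rw [map_inv₀, htf], right_ext hh fun x => ?_⟩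
      rw [hA, hG, hG, UnitaryInLinear.smul_right hh, map_inv₀, htf]
      have := hw'' ((g : Matrix ι ι F) *ᵥ x)
      rw [← ht, UnitaryInLinear.smul_right hh, htf, inv_mulVec_cancel] at this
      rw [← this, inv_mul_cancel_left₀ ht0]
    obtain ⟨e, he0, hee⟩ := exists_isotropic3 hh h3
    obtain ⟨f, -, hfe, hff⟩ := exists_iso_value3 hh h3 (u := 0) (Or.inl rfl) (v := e) (by simpa using he0)
    obtain ⟨r, hr0, hr, hAe⟩ := heig e hee he0
    have hmove : ∀ v, h v v = 0 → h v e ≠ 0 → A v = r • v := by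
      intro v hv hve
      obtain ⟨s, -, hs, hAv⟩ := heig v hv (fun e0 => hve (by
        rw [e0]; simpa using hh.smul 0 0 e))
      have := hsa v e
      rw [hAe, hAv, UnitaryInLinear.smul_right hh, hr, hh.smul] at this
      rw [hAv, mul_right_cancel₀ hve this]
    have hall : ∀ x, A x = r • x := fun x => mem_of_iso_lines hh (fun y => A y = r • y)
      (fun a b ha hb => by rw [hAadd, ha, hb, smul_add]) (u := 0) (zero_right hh e) (zero_right hh f)
      hee hff hfe (fun c => by rw [hAsmul, hAe, smul_comm])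
      (fun c => by rw [hAsmul, hmove f hff (by rw [hfe]; exact one_ne_zero), smul_comm])
      (fun v _ hv hve c => by rw [hAsmul, hmove v hv hve, smul_comm]) (zero_right hh x)
    refine ⟨Units.mk0 r hr0, fun a b => ?_⟩
    rw [← hG, ← hG, ← hA, hall, UnitaryInLinear.smul_right hh, hr, Units.val_mk0]
  -- the first vector may be taken anisotropic
  obtain ⟨u₀, w₀, hu₀, p₀, hw₀, huu₀⟩ := SL4.Unitary.exists_aniso_pair hh hvv hu₁ p₁ hw₁
  -- `u₀` is a centre
  have hSU : ∀ k ∈ Cfsg.Geo.specialLinear ι F,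
      (∀ x y, h ((k : Matrix ι ι F) *ᵥ x) ((k : Matrix ι ι F) *ᵥ y) = h x y) → k ∈ M :=
    fun k hk hiso => hM ((hmem k).2 ⟨hk, 1, fun x y => by rw [hiso, Units.val_one, one_mul]⟩)
  have hline : ∀ w, RP σ h M u₀ w → ∀ v, h v u₀ = 0 → h v v = 0 → h w v ≠ 0 →
      ∀ c : F, RP σ h M u₀ (c • v) := by
    intro w pw v hvu hv hwv c
    have huv := comm_zero hh hvu
    have hne : h (τ • w) v ≠ 0 := by rw [hh.smul]; exact mul_ne_zero hτ0 hwv
    have p1 := pair_step hh (pw.2 τ hτ) ((hvv v hv).2 τ hτ) huv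
    rw [← neg_smul] at p1
    have hfull := full_root hh hSU huu₀ huv hv (neg_ne_zero.2 (mul_ne_zero hne hτ0)) p1
    refine ⟨by rw [UnitaryInLinear.smul_right hh, huv, mul_zero], fun a _ => ?_⟩
    have := pair_step hh (pw.2 τ hτ) (hfull (-(a * c) / h (τ • w) v)) huv
    rwa [mul_div_cancel₀ _ hne, neg_smul, neg_neg, ← smul_smul] at this
  have hall : ∀ x, h x u₀ = 0 → RP σ h M u₀ x := by
    have hu₀w : u₀ ∉ Submodule.span F {u₀} → False := fun e => e (Submodule.mem_span_singleton_self _)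
    obtain ⟨e, heu, hew, hee⟩ := exists_iso_value3 hh h3 (Or.inr huu₀) hw₀
    have hwe : h w₀ e ≠ 0 := by rw [hh.herm, hew, map_one]; exact one_ne_zero
    have he := hline w₀ p₀ e heu hee hwe
    have hene : e ∉ Submodule.span F {u₀} := by
      intro hm
      obtain ⟨t, rfl⟩ := Submodule.mem_span_singleton.1 hm
      rw [hh.smul, p₀.1, mul_zero] at hew
      exact zero_ne_one hew
    obtain ⟨f, hfu, hfe, hff⟩ := exists_iso_value3 hh h3 (Or.inr huu₀) hene
    have he1 : RP σ h M u₀ e := by simpa using he 1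
    have hf := hline e he1 f hfu hff (by rw [hh.herm, hfe, map_one]; exact one_ne_zero)
    exact fun x hx => mem_of_iso_lines hh (fun y => RP σ h M u₀ y) (fun a b ha hb => ha.add_right hh hb)
      heu hfu hee hff hfe he hf
      (fun v hvu hv hve => hline e he1 v hvu hv (fun e0 => hve (comm_zero hh e0))) hx
  have hcen : u₀ ∈ centres M := fun φ hφ => by
    obtain ⟨w, hw⟩ := exists_repr hh
      { toFun := fun x => φ ⬝ᵥ x
        map_add' := fun a b => dotProduct_add φ a b
        map_smul' := fun t a => dotProduct_smul t φ a }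
    have hw' : ∀ x, h x w = φ ⬝ᵥ x := hw
    have hperp : h (τ⁻¹ • w) u₀ = 0 := by
      rw [hh.smul, comm_zero hh (show h u₀ w = 0 by rw [hw']; exact hφ), mul_zero]
    obtain ⟨-, k, hk, happ⟩ := (hall _ hperp).2 τ hτ
    have hke : k = trv u₀ φ hφ := gl_ext fun x => by
      rw [happ, smul_smul, mul_inv_cancel₀ hτ0, one_smul, trv_mulVec, hw']
    exact hke ▸ hk
  have h0c : (0 : ι → F) ∈ centres M := by simpa using centres_smul 0 hcen
  have hcadd : ∀ a b, a ∈ centres M → b ∈ centres M → a + b ∈ centres M := fun a b ha hb => by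
    by_cases hm : a ∈ Submodule.span F {b}
    · obtain ⟨t, rfl⟩ := Submodule.mem_span_singleton.1 hm
      have := centres_smul (t + 1) hb
      rwa [add_smul, one_smul] at this
    · obtain ⟨φ, hφb, hφa⟩ := exists_row_of_not_mem hm
      have := centres_map (hb φ (hφb b (Submodule.mem_span_singleton_self _))) ha
      rwa [trv_mulVec, hφa, one_smul] at this
  have hcmove : ∀ u v, u ∈ centres M → h v v = 0 → h u v ≠ 0 → v ∈ centres M := fun u v hu hv huv => by
    obtain ⟨k, hk, happ, -⟩ := htH v τ hv hτ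
    have h1 := centres_map hk hu
    rw [happ] at h1
    have h2 := centres_smul (τ * h u v)⁻¹ (hcadd _ _ h1 (centres_smul (-1) hu))
    rwa [neg_one_smul, add_neg_cancel_comm, inv_smul_smul₀ (mul_ne_zero hτ0 huv)] at h2
  obtain ⟨e, -, heu, hee⟩ := exists_iso_value3 hh h3 (u := 0) (Or.inl rfl) (v := u₀) (by simpa using hu₀)
  have he0 : e ≠ 0 := fun e0 => by
    rw [e0, show h 0 u₀ = 0 by simpa using hh.smul 0 0 u₀] at heu
    exact zero_ne_one heu
  have hec := hcmove u₀ e hcen hee (by rw [hh.herm, heu, map_one]; exact one_ne_zero)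
  obtain ⟨f, -, hfe, hff⟩ := exists_iso_value3 hh h3 (u := 0) (Or.inl rfl) (v := e) (by simpa using he0)
  have hfc := hcmove e f hec hff (by rw [hh.herm, hfe, map_one]; exact one_ne_zero)
  refine specialLinear_le_of_centres fun x => mem_of_iso_lines hh (fun y => y ∈ centres M) hcadd
    (u := 0) (zero_right hh e) (zero_right hh f) hee hff hfe (fun c => centres_smul c hec)
    (fun c => centres_smul c hfc)
    (fun v _ hv hve c => centres_smul c (hcmove e v hec hv fun e0 => hve (comm_zero hh e0)))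
    (zero_right hh x)

/-- the conjunct on unitary forms of S5774 -/
theorem maximal {K : Type*} [Field K] [Fintype K] :
    ∀ (σ : K ≃+* K) (f : (Fin 3 → K) → (Fin 3 → K) → K), Cfsg.Geo.IsUnitaryForm σ f →
      Cfsg.Geo.IsMaximalIn (Cfsg.Geo.specialLinear (Fin 3) K)
        (Cfsg.Geo.similarityGroup f ⊓ Cfsg.Geo.specialLinear (Fin 3) K) := by
  intro σ f hf
  classical
  have hh : Herm (σ : K →+* K) f :=
    { ne_id := fun e => hf.ne_refl (RingEquiv.ext fun a => RingHom.congr_fun e a)
      inv := hf.involutive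
      add := hf.add_left
      smul := hf.smul_left
      herm := hf.herm
      nd := fun v hv => by
        by_contra h0
        obtain ⟨x, hx⟩ := (hf.nondegenerate v h0).2
        exact hx (hv x) }
  exact similarity_maximal3 hh (Fintype.card_fin 3) _ inf_le_right
    fun g => ⟨fun h => ⟨h.2, h.1⟩, fun h => ⟨h.2, h.1⟩⟩

end Cfsg.Agent.Forms.Max.SL3.Unitary
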